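import Cfsg.Prelude.Def_QuasithinSetup
import Cfsg.Agent.Lib.Fusion.Alperin
import Cfsg.Agent.Lib.Cores.Pi
import Mathlib.GroupTheory.Transfer

/-!
# Fusion from the Alperin–Goldschmidt conjugation family

`control`: if `M` contains the normalizers of the members of `agConjFamily T`, then every map
`A → T`, `a ↦ g a g⁻¹` with `A ≤ T` is induced by an element of `M`.
-/

set_option autoImplicit false

namespace Cfsg.Agent.Lib.QTUnique.AGFamily

open Subgroup Cfsg.Agent.Lib.Fusion.Alperin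

variable {G : Type*} [Group G]

/-- `g` acts on `A` as some element of `M`. -/
def Eff (M A : Subgroup G) (g : G) : Prop :=
  ∃ m ∈ M, ∀ a ∈ A, m * a * m⁻¹ = g * a * g⁻¹

variable [Finite G]

/-- Frattini argument inside a subgroup `N`. -/
theorem frattini_in {N S L : Subgroup G} (hS : IsPGroup 2 S) (hSN : S ≤ N)
    (hmax : ∀ U : Subgroup G, IsPGroup 2 U → U ≤ N → S ≤ U → U = S) (hLN : L ≤ N)
    (hL : ∀ n ∈ N, ∀ l ∈ L, n * l * n⁻¹ ∈ L) {n : G} (hn : n ∈ N) :
    ∃ l ∈ L, ∃ n' ∈ N, n' ∈ normalizer ((S ⊓ L : Subgroup G) : Set G) ∧ n = l * n' := by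
  haveI : Fact (Nat.Prime 2) := ⟨Nat.prime_two⟩
  haveI hLn : (L.subgroupOf N).Normal := ⟨fun l hl m => hL m m.2 l hl⟩
  have hX : IsPGroup 2 (S.subgroupOf N) := hS.comap_subtype
  let S₀ : Sylow 2 N :=
    { toSubgroup := S.subgroupOf N
      isPGroup' := hX
      is_maximal' := fun {U} hU hle => by
        have h1 := hmax (U.map N.subtype) (hU.map _) (map_subtype_le _) (fun x hx =>
          ⟨⟨x, hSN hx⟩, hle hx, rfl⟩)
        apply le_antisymm _ hle
        intro x hx
        have h2 : (x : G) ∈ U.map N.subtype := ⟨x, hx, rfl⟩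
        rw [h1] at h2
        exact h2 }
  set L₀ := L.subgroupOf N with hL₀
  have hp : IsPGroup 2 (((S₀ : Subgroup N) ⊓ L₀).subgroupOf L₀) :=
    (hX.to_le inf_le_left).comap_subtype
  obtain ⟨Q, hQ⟩ := hp.exists_le_sylow
  have hQeq : (Q : Subgroup L₀).map L₀.subtype = (S₀ : Subgroup N) ⊓ L₀ := by
    have h1 : (S₀ : Subgroup N) ⊓ L₀ ≤ (Q : Subgroup L₀).map L₀.subtype := fun x hx =>
      ⟨⟨x, hx.2⟩, hQ hx, rfl⟩
    refine (eq_of_le_of_card_ge h1 ?_).symm
    obtain ⟨S₁, hS₁⟩ := (Q.isPGroup'.map L₀.subtype).exists_le_sylow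
    obtain ⟨m, hm⟩ := MulAction.exists_smul_eq N S₁ S₀
    have hle : ((Q : Subgroup L₀).map L₀.subtype).map (MulAut.conj m).toMonoidHom ≤
        (S₀ : Subgroup N) ⊓ L₀ := by
      rintro _ ⟨y, hy, rfl⟩
      refine ⟨?_, ?_⟩
      · rw [← hm, Sylow.coe_subgroup_smul]
        exact Subgroup.smul_mem_pointwise_smul _ (MulAut.conj m) _ (hS₁ hy)
      · obtain ⟨z, -, rfl⟩ := hy
        exact hLn.conj_mem _ z.2 m
    have := card_le_of_le hle
    rwa [Subgroup.card_map_of_injective (MulAut.conj m).injective] at this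
  have htop := Sylow.normalizer_sup_eq_top Q
  have hmem : (⟨n, hn⟩ : N) ∈ normalizer (((Q : Subgroup L₀).map L₀.subtype : Subgroup N) : Set N)
      ⊔ L₀ := by
    rw [htop]; exact mem_top _
  rw [Subgroup.mem_sup_of_normal_right] at hmem
  obtain ⟨a, ha, l, hl, hal⟩ := hmem
  rw [hQeq] at ha
  refine ⟨(a : G) * l * (a : G)⁻¹, hL a a.2 l hl, a, a.2, ?_, ?_⟩
  · rw [mem_normalizer_iff]
    intro x
    constructor
    · rintro ⟨hxS, hxL⟩
      have := (mem_normalizer_iff.1 ha ⟨x, hSN hxS⟩).1 ⟨hxS, hxL⟩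
      exact ⟨this.1, this.2⟩
    · rintro ⟨hxS, hxL⟩
      have hxN : x ∈ N := by
        have := mul_mem (mul_mem (inv_mem a.2) (hSN hxS)) a.2
        simpa [mul_assoc] using this
      have := (mem_normalizer_iff.1 ha ⟨x, hxN⟩).2 ⟨hxS, hxL⟩
      exact ⟨this.1, this.2⟩
  · have := congrArg Subtype.val hal
    simp only [Subgroup.coe_mul] at this
    rw [← this]
    group

/-- The odd elements of a normal subgroup with central Sylow `2`-subgroup. -/
theorem le_oddCore_sup {N : Type*} [Group N] [Finite N] {C P : Subgroup N} [C.Normal] (hPC : P ≤ C)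
    (hP : IsPGroup 2 P) (hmax : ∀ U : Subgroup N, IsPGroup 2 U → U ≤ C → P ≤ U → U = P)
    (hcent : ∀ c ∈ C, ∀ p ∈ P, c * p = p * c) : C ≤ Cfsg.oddCore N ⊔ P := by
  haveI : Fact (Nat.Prime 2) := ⟨Nat.prime_two⟩
  let P₀ : Sylow 2 C :=
    { toSubgroup := P.subgroupOf C
      isPGroup' := hP.comap_subtype
      is_maximal' := fun {U} hU hle => by
        have h1 := hmax (U.map C.subtype) (hU.map _) (map_subtype_le _) (fun x hx =>
          ⟨⟨x, hPC hx⟩, hle hx, rfl⟩)
        apply le_antisymm _ hle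
        intro x hx
        have h2 : (x : N) ∈ U.map C.subtype := ⟨x, hx, rfl⟩
        rw [h1] at h2
        exact h2 }
  have hPz : normalizer ((P₀ : Subgroup C) : Set C) ≤ centralizer ((P₀ : Subgroup C) : Set C) :=
    fun c _ => mem_centralizer_iff.2 fun p hp => Subtype.ext (hcent c c.2 p hp).symm
  have hcompl := MonoidHom.ker_transferSylow_isComplement' P₀ hPz
  set τ := MonoidHom.transferSylow P₀ hPz
  have hodd : Odd (Nat.card τ.ker) := by
    rw [← hcompl.index_eq_card, ← Nat.not_even_iff_odd, even_iff_two_dvd]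
    exact P₀.not_dvd_index
  have hKn : (τ.ker.map C.subtype).Normal := by
    refine ⟨?_⟩
    rintro _ ⟨x, hx, rfl⟩ m
    refine ⟨⟨m * x * m⁻¹, (inferInstance : C.Normal).conj_mem _ x.2 m⟩, ?_, rfl⟩
    show τ _ = 1
    obtain ⟨k, hk⟩ := P₀.isPGroup'.exists_orderOf_dvd_pow
      (τ ⟨m * x * m⁻¹, (inferInstance : C.Normal).conj_mem _ x.2 m⟩)
    have h1 : orderOf (τ ⟨m * x * m⁻¹, (inferInstance : C.Normal).conj_mem _ x.2 m⟩) ∣
        Nat.card τ.ker := by
      refine (orderOf_map_dvd τ _).trans ?_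
      have e : orderOf (⟨m * x * m⁻¹, (inferInstance : C.Normal).conj_mem _ x.2 m⟩ : C) =
          orderOf x := by
        rw [← orderOf_coe, ← orderOf_coe x]
        exact (MulAut.conj m).orderOf_eq (x : N)
      rw [e]
      exact Subgroup.orderOf_dvd_natCard τ.ker hx
    refine orderOf_eq_one_iff.1 (Nat.eq_one_of_dvd_one ?_)
    have hco : Nat.Coprime (Nat.card τ.ker) (2 ^ k) :=
      (Nat.coprime_two_right.2 hodd).pow_right k
    rw [← hco.gcd_eq_one]
    exact Nat.dvd_gcd h1 hk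
  haveI := hKn
  have hK : τ.ker.map C.subtype ≤ Cfsg.oddCore N := Cores.le_oddCore (by
    rwa [Subgroup.card_map_of_injective C.subtype_injective])
  intro c hc
  have hmem : (⟨c, hc⟩ : C) ∈ τ.ker ⊔ (P₀ : Subgroup C) := by
    rw [hcompl.sup_eq_top]; exact mem_top _
  rw [Subgroup.mem_sup_of_normal_left] at hmem
  obtain ⟨k, hk, p, hp, hkp⟩ := hmem
  rw [show c = (k : N) * (p : N) from (congrArg Subtype.val hkp).symm]
  exact mul_mem (mem_sup_left (hK ⟨k, hk, rfl⟩)) (mem_sup_right hp)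

/-- A fusion chain acts as an element of `M` if its steps do. -/
theorem eff_of_chain {p : ℕ} {P M A : Subgroup G} {g : G} (hc : FusionChain p P A g)
    (h : ∀ R : Subgroup G, IsFusionBase p P R → Nat.card A ≤ Nat.card R →
      ∀ n ∈ normalizer (R : Set G), Eff M R n) : Eff M A g := by
  induction hc with
  | base hR hAR hn =>
    obtain ⟨m, hm, he⟩ := h _ hR (card_le_of_le hAR) _ hn
    exact ⟨m, hm, fun a ha => he a (hAR ha)⟩
  | @comp B g₁ g₂ _ _ ih₁ ih₂ =>
    obtain ⟨m₁, hm₁, he₁⟩ := ih₁ h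
    obtain ⟨m₂, hm₂, he₂⟩ := ih₂ (fun R hR hle => h R hR (by rwa [card_conjS] at hle))
    refine ⟨m₂ * m₁, mul_mem hm₂ hm₁, fun a ha => ?_⟩
    have h2 := he₂ _ (conj_mem_conjS ha)
    calc m₂ * m₁ * a * (m₂ * m₁)⁻¹ = m₂ * (m₁ * a * m₁⁻¹) * m₂⁻¹ := by group
      _ = m₂ * (g₁ * a * g₁⁻¹) * m₂⁻¹ := by rw [he₁ a ha]
      _ = g₂ * g₁ * a * (g₂ * g₁)⁻¹ := by rw [h2]; group

variable (T : Sylow 2 G) {M : Subgroup G}

/-- The steps of a fusion chain, by induction from the top. -/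
theorem eff_base (h : ∀ D ∈ Cfsg.agConjFamily (T : Subgroup G), normalizer (D : Set G) ≤ M)
    (R : Subgroup G) (hR : IsFusionBase 2 (T : Subgroup G) R) :
    ∀ n ∈ normalizer (R : Set G), Eff M R n := by
  haveI : Fact (Nat.Prime 2) := ⟨Nat.prime_two⟩
  induction hd : Nat.card G - Nat.card R using Nat.strong_induction_on generalizing R with
  | _ d ih =>
  subst hd
  intro n hn
  by_cases hR1 : R = ⊥
  · refine ⟨1, one_mem _, fun a ha => ?_⟩
    rw [hR1, mem_bot] at ha
    simp [ha]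
  obtain ⟨hRT, hfn, -⟩ := hR
  set N := normalizer (R : Set G) with hNdef
  set S := (T : Subgroup G) ⊓ N with hSdef
  have hS : IsPGroup 2 S := T.isPGroup'.to_le inf_le_left
  have hRS : R ≤ S := le_inf hRT le_normalizer
  -- a step with a larger subgroup
  have big : ∀ Q : Subgroup G, Q ≤ (T : Subgroup G) → R ≤ Q → Q ≠ R →
      ∀ n' ∈ normalizer (Q : Set G), Eff M R n' := by
    intro Q hQT hRQ hne n' hn'
    have hlt : Nat.card R < Nat.card Q :=
      lt_of_le_of_ne (card_le_of_le hRQ) fun e => hne (eq_of_le_of_card_ge hRQ e.ge).symm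
    obtain ⟨m, hm, he⟩ := eff_of_chain (alperin T Q n' hQT
      ((conjS_eq_of_mem_normalizer hn').le.trans hQT)) (fun R' hR' hle => ih _ (by
        have : Nat.card R' ≤ Nat.card G := card_le_card_group R'
        omega) R' hR' rfl)
    exact ⟨m, hm, fun a ha => he a (hRQ ha)⟩
  -- absorbing a factor centralizing `R`
  have absorb : ∀ c n' : G, c ∈ centralizer (R : Set G) → n' ∈ N → Eff M R n' →
      Eff M R (c * n') := by
    intro c n' hc hn'N hE
    obtain ⟨m, hm, he⟩ := hE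
    refine ⟨m, hm, fun a ha => ?_⟩
    have h1 : n' * a * n'⁻¹ ∈ R := (mem_normalizer_iff.1 hn'N a).1 ha
    have h2 := mem_centralizer_iff.1 hc _ h1
    calc m * a * m⁻¹ = n' * a * n'⁻¹ := he a ha
      _ = c * (n' * a * n'⁻¹) * c⁻¹ := by rw [← h2]; group
      _ = c * n' * a * (c * n')⁻¹ := by group
  set C := centralizer (R : Set G) with hCdef
  have hCN : C ≤ N := centralizer_le_normalizer _
  have hCn : ∀ m ∈ N, ∀ c ∈ C, m * c * m⁻¹ ∈ C := by
    intro m hm c hc
    refine mem_centralizer_iff.2 fun r hr => ?_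
    have h1 : m⁻¹ * r * m ∈ R := by
      have := (mem_normalizer_iff.1 (inv_mem hm) r).1 hr
      simpa using this
    have h2 := mem_centralizer_iff.1 hc _ h1
    calc r * (m * c * m⁻¹) = m * (m⁻¹ * r * m * c) * m⁻¹ := by group
      _ = m * (c * (m⁻¹ * r * m)) * m⁻¹ := by rw [h2]
      _ = m * c * m⁻¹ * r := by group
  by_cases hCR : S ⊓ C ≤ R
  swap
  · obtain ⟨c, hc, n', hn'N, hn'Q, rfl⟩ := frattini_in hS inf_le_right
      (fun U hU hUN hle => hfn U hU hUN hle) hCN hCn hn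
    refine absorb c n' hc hn'N (big (R ⊔ S ⊓ C) (sup_le hRT (inf_le_left.trans inf_le_left))
      le_sup_left (fun e => hCR (le_sup_right.trans e.le)) n' ?_)
    refine mem_normalizer_of_conjS_eq ?_
    rw [conjS, Subgroup.map_sup]
    exact congrArg₂ (· ⊔ ·) (conjS_eq_of_mem_normalizer hn'N) (conjS_eq_of_mem_normalizer hn'Q)
  set R₀ := R.subgroupOf N with hR₀
  haveI hR₀n : R₀.Normal := normal_in_normalizer
  set O := Cfsg.oddCore N with hOdef
  have hOR : ∀ o ∈ O, ∀ r ∈ R₀, o * r = r * o := by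
    intro o ho r hr
    have hdis : Disjoint O R₀ := by
      rw [disjoint_iff]
      refine inf_eq_bot_of_coprime ?_
      obtain ⟨k, hk⟩ := IsPGroup.iff_card.1 ((T.isPGroup'.to_le hRT).comap_subtype (K := N))
      rw [show Nat.card R₀ = 2 ^ k from hk]
      exact (Nat.coprime_two_right.2 Cores.oddCore_odd).pow_right k
    exact commute_of_normal_of_disjoint O R₀ inferInstance hR₀n hdis o r ho hr
  set O' := O.map N.subtype with hO'
  have hO'C : O' ≤ C := by
    rintro _ ⟨o, ho, rfl⟩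
    refine mem_centralizer_iff.2 fun r hr => ?_
    exact (congrArg Subtype.val (hOR o ho ⟨r, le_normalizer hr⟩ hr)).symm
  have hCOR : C ≤ O' ⊔ R := by
    haveI : (C.subgroupOf N).Normal := ⟨fun c hc m => hCn m m.2 c hc⟩
    have h1 := le_oddCore_sup (N := N) (C := C.subgroupOf N) (P := (S ⊓ C).subgroupOf N)
      (fun x hx => hx.2) ((hS.to_le inf_le_left).comap_subtype) ?_ ?_
    · intro c hc
      have h2 := h1 (show (⟨c, hCN hc⟩ : N) ∈ C.subgroupOf N from hc)
      have h3 : c ∈ (O ⊔ (S ⊓ C).subgroupOf N).map N.subtype := ⟨_, h2, rfl⟩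
      rw [Subgroup.map_sup] at h3
      refine (sup_le_sup le_rfl ?_ : O' ⊔ ((S ⊓ C).subgroupOf N).map N.subtype ≤ O' ⊔ R) h3
      rintro _ ⟨y, hy, rfl⟩
      exact hCR hy
    · intro U hU hUC hle
      -- a `2`-subgroup of `C` over `S ⊓ C`: conjugate into `S` inside `N`
      apply le_antisymm _ hle
      have hU' : IsPGroup 2 (U.map N.subtype) := hU.map _
      obtain ⟨n₁, hn₁, hle₁⟩ := exists_conj_le_of_maximal hS inf_le_right
        (fun V hV hVN hle => hfn V hV hVN hle) hU' (map_subtype_le U)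
      have hsub : conjS n₁ (U.map N.subtype) ≤ S ⊓ C := by
        refine le_inf hle₁ ?_
        rintro _ ⟨_, ⟨u, hu, rfl⟩, rfl⟩
        exact hCn n₁ hn₁ u (hUC hu)
      have h4 : Nat.card U ≤ Nat.card ((S ⊓ C).subgroupOf N) := by
        have := card_le_of_le hsub
        rw [card_conjS, Subgroup.card_map_of_injective N.subtype_injective] at this
        rwa [Nat.card_congr (subgroupOfEquivOfLe (show S ⊓ C ≤ N from
          inf_le_right.trans hCN)).toEquiv]
      exact (eq_of_le_of_card_ge hle h4).ge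
    · intro c hc x hx
      exact Subtype.ext (mem_centralizer_iff.1 hc (x : G) (hCR hx)).symm
  set L := (pPrimePCore 2 N).map N.subtype with hLdef
  have hLn₀ : (pPrimePCore 2 N).Normal := Subgroup.Normal.comap inferInstance _
  have hRL₀ : R₀ ≤ pPrimePCore 2 N := by
    rw [pPrimePCore, ← map_le_iff_le_comap]
    haveI : (R₀.map (QuotientGroup.mk' (pPrimeCore 2 N))).Normal :=
      hR₀n.map _ (QuotientGroup.mk'_surjective _)
    exact Cores.le_pCore (((T.isPGroup'.to_le hRT).comap_subtype (K := N)).map _)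
  have hOL : O' ≤ L := Subgroup.map_mono fun o ho => by
    show QuotientGroup.mk' (pPrimeCore 2 N) o ∈ pCore 2 (N ⧸ pPrimeCore 2 N)
    rw [show QuotientGroup.mk' (pPrimeCore 2 N) o = 1 from (QuotientGroup.eq_one_iff o).2 ho]
    exact one_mem _
  have hRL : R ≤ L := fun r hr => ⟨⟨r, le_normalizer hr⟩, hRL₀ hr, rfl⟩
  have hLN : L ≤ N := map_subtype_le _
  have hLnorm : ∀ m ∈ N, ∀ l ∈ L, m * l * m⁻¹ ∈ L := by
    rintro m hm _ ⟨l, hl, rfl⟩
    exact ⟨_, hLn₀.conj_mem l hl ⟨m, hm⟩, rfl⟩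
  have hLsplit : L ≤ O' ⊔ S ⊓ L := by
    rintro _ ⟨l, hl, rfl⟩
    let S₀ : Sylow 2 N :=
      { toSubgroup := S.subgroupOf N
        isPGroup' := hS.comap_subtype
        is_maximal' := fun {U} hU hle => by
          have h1 := hfn (U.map N.subtype) (hU.map _) (map_subtype_le _) (fun x hx =>
            ⟨⟨x, hx.2⟩, hle hx, rfl⟩)
          apply le_antisymm _ hle
          intro x hx
          have h2 : (x : G) ∈ U.map N.subtype := ⟨x, hx, rfl⟩
          rw [h1] at h2
          exact h2 }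
    have h1 : QuotientGroup.mk' (pPrimeCore 2 N) l ∈
        (S.subgroupOf N).map (QuotientGroup.mk' (pPrimeCore 2 N)) :=
      Cores.pCore_le_sylow (S₀.mapSurjective (QuotientGroup.mk'_surjective _)) hl
    obtain ⟨s, hs, hse⟩ := h1
    have ho : l * s⁻¹ ∈ O := by
      refine (QuotientGroup.eq_one_iff _).1 ?_
      show QuotientGroup.mk' (pPrimeCore 2 N) (l * s⁻¹) = 1
      rw [map_mul, map_inv, hse, mul_inv_cancel]
    have ho' : (l : G) * (s : G)⁻¹ ∈ O' := ⟨_, ho, rfl⟩
    have hsL : (s : G) ∈ L := by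
      have := mul_mem (inv_mem (hOL ho')) (show (l : G) ∈ L from ⟨l, hl, rfl⟩)
      simpa [mul_assoc] using this
    have := mul_mem (mem_sup_left (T := S ⊓ L) ho') (mem_sup_right (S := O') (⟨hs, hsL⟩ : (s : G) ∈ S ⊓ L))
    simpa [mul_assoc] using this
  by_cases hSL : S ⊓ L ≤ R
  · -- `R` is a member of the family
    have hLeq : O' ⊔ R = L :=
      le_antisymm (sup_le hOL hRL) (hLsplit.trans (sup_le_sup le_rfl hSL))
    refine ⟨n, h R ⟨hR1, hRT, ?_, hCOR.trans hLeq.le, ?_, hLeq⟩ hn, fun _ _ => rfl⟩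
    · exact ⟨{ toSubgroup := S.subgroupOf N
               isPGroup' := hS.comap_subtype
               is_maximal' := fun {U} hU hle => by
                 have h1 := hfn (U.map N.subtype) (hU.map _) (map_subtype_le _) (fun x hx =>
                   ⟨⟨x, hx.2⟩, hle hx, rfl⟩)
                 apply le_antisymm _ hle
                 intro x hx
                 have h2 : (x : G) ∈ U.map N.subtype := ⟨x, hx, rfl⟩
                 rw [h1] at h2
                 exact h2 }, rfl⟩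
    · rw [commutator_eq_bot_iff_le_centralizer]
      exact hO'C
  · obtain ⟨l, hl, n', hn'N, hn'Q, rfl⟩ := frattini_in hS inf_le_right
      (fun U hU hUN hle => hfn U hU hUN hle) hLN hLnorm hn
    -- `L` is the odd core times `S ⊓ L`
    have hsupeq : O' ⊔ S ⊓ L = ((O ⊔ (S ⊓ L).subgroupOf N).map N.subtype) := by
      rw [Subgroup.map_sup, subgroupOf_map_subtype,
        inf_eq_left.2 ((inf_le_right (a := S)).trans hLN)]
    have hl' := hLsplit hl
    rw [hsupeq] at hl'
    obtain ⟨l₀, hl₀, hl₀e⟩ := hl'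
    rw [SetLike.mem_coe, Subgroup.mem_sup_of_normal_left] at hl₀
    obtain ⟨o, ho, r, hr, hor⟩ := hl₀
    have hln : l * n' = (o : G) * ((r : G) * n') := by
      rw [← hl₀e, ← hor]; simp [mul_assoc]
    rw [hln]
    refine absorb _ _ (hO'C ⟨o, ho, rfl⟩) (mul_mem r.2 hn'N) (big (R ⊔ S ⊓ L)
      (sup_le hRT (inf_le_left.trans inf_le_left)) le_sup_left
      (fun e => hSL (le_sup_right.trans e.le)) _ ?_)
    refine mem_normalizer_of_conjS_eq ?_
    rw [conjS, Subgroup.map_sup]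
    exact congrArg₂ (· ⊔ ·) (conjS_eq_of_mem_normalizer (mul_mem r.2 hn'N))
      (conjS_eq_of_mem_normalizer (mul_mem (le_normalizer hr) hn'Q))

/-- **Control of fusion.** -/
theorem control (h : ∀ D ∈ Cfsg.agConjFamily (T : Subgroup G), normalizer (D : Set G) ≤ M)
    {A : Subgroup G} {g : G} (hA : A ≤ T) (hgA : ∀ a ∈ A, g * a * g⁻¹ ∈ T) : Eff M A g :=
  haveI : Fact (Nat.Prime 2) := ⟨Nat.prime_two⟩
  eff_of_chain (alperin T A g hA (by rintro _ ⟨a, ha, rfl⟩; exact hgA a ha))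
    fun R hR _ => eff_base T h R hR

/-- Fusion of one element. -/
theorem control_element (h : ∀ D ∈ Cfsg.agConjFamily (T : Subgroup G), normalizer (D : Set G) ≤ M)
    {x g : G} (hx : x ∈ T) (hgx : g * x * g⁻¹ ∈ T) : ∃ m ∈ M, m * x * m⁻¹ = g * x * g⁻¹ := by
  obtain ⟨m, hm, he⟩ := control T h (A := zpowers x) (g := g) (zpowers_le.2 hx) (by
    intro a ha
    obtain ⟨k, rfl⟩ := mem_zpowers_iff.1 ha
    rw [← conj_zpow]
    exact zpow_mem hgx k)
  exact ⟨m, hm, he x (mem_zpowers x)⟩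

end Cfsg.Agent.Lib.QTUnique.AGFamily
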