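import Cfsg.Agent.Lib.Crit59.Setting

/-!
# An elementary abelian normal subgroup of a subgroup controlling its fusion

`Hyp M V`: `V` is a normal elementary abelian `2`-subgroup of `M` and the `G`-conjugates in `M` of
an element of `V` are its `M`-conjugates.
-/

set_option autoImplicit false

namespace Cfsg.Agent.Lib.QTUnique

open Subgroup

variable {G : Type*} [Group G]

/-- The standing hypotheses. -/
structure Hyp (M V : Subgroup G) : Prop where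
  proper : M ≠ ⊤
  le : V ≤ M
  norm : ∀ m ∈ M, ∀ v ∈ V, m * v * m⁻¹ ∈ V
  sq : ∀ v ∈ V, v * v = 1
  fus : ∀ v ∈ V, ∀ g : G, g * v * g⁻¹ ∈ M → ∃ m ∈ M, m * v * m⁻¹ = g * v * g⁻¹

/-- The elements whose centralizers lie in `M`. -/
def Nice (M : Subgroup G) (v : G) : Prop := centralizer ({v} : Set G) ≤ M

/-- `Y` is a maximal intersection of `V` with a conjugate by an element outside `M`. -/
structure MaxInt (M V Y : Subgroup G) : Prop where
  le : Y ≤ V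
  witness : ∃ g : G, g ∉ M ∧ ∀ y ∈ Y, g * y * g⁻¹ ∈ V
  max : ∀ g : G, g ∉ M → (∀ y ∈ Y, g * y * g⁻¹ ∈ V) → ∀ v ∈ V, g * v * g⁻¹ ∈ V → v ∈ Y

variable {M V Y : Subgroup G} (h : Hyp M V)

include h

theorem Hyp.inv_eq {v : G} (hv : v ∈ V) : v⁻¹ = v := inv_eq_of_mul_eq_one_right (h.sq v hv)

theorem Hyp.comm {v w : G} (hv : v ∈ V) (hw : w ∈ V) : v * w = w * v := by
  rw [← h.inv_eq (mul_mem hv hw), mul_inv_rev, h.inv_eq hv, h.inv_eq hw]

theorem Hyp.order_two {v : G} (hv : v ∈ V) (h1 : v ≠ 1) : orderOf v = 2 :=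
  orderOf_eq_prime (by rw [pow_two]; exact h.sq v hv) h1

theorem Hyp.mem_of_conj {v g : G} (hv : v ∈ V) (hg : g * v * g⁻¹ ∈ M) : g * v * g⁻¹ ∈ V := by
  obtain ⟨m, hm, he⟩ := h.fus v hv g hg
  exact he ▸ h.norm m hm v hv

theorem Hyp.nice_fix {v g : G} (hv : v ∈ V) (hn : Nice M v) (hg : g * v * g⁻¹ ∈ M) : g ∈ M := by
  obtain ⟨m, hm, he⟩ := h.fus v hv g hg
  have hc : m⁻¹ * g ∈ centralizer ({v} : Set G) := by
    refine mem_centralizer_singleton_iff.2 ?_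
    calc m⁻¹ * g * v = m⁻¹ * (g * v * g⁻¹) * g := by group
      _ = m⁻¹ * (m * v * m⁻¹) * g := by rw [he]
      _ = v * (m⁻¹ * g) := by group
  simpa using mul_mem hm (hn hc)

theorem Hyp.nice_conj {v m : G} (hm : m ∈ M) (hn : Nice M v) : Nice M (m * v * m⁻¹) := by
  have := h.proper
  intro c hc
  rw [mem_centralizer_singleton_iff] at hc
  have h1 : m⁻¹ * c * m ∈ centralizer ({v} : Set G) := by
    refine mem_centralizer_singleton_iff.2 ?_
    calc m⁻¹ * c * m * v = m⁻¹ * (c * (m * v * m⁻¹)) * m := by group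
      _ = m⁻¹ * (m * v * m⁻¹ * c) * m := by rw [hc]
      _ = v * (m⁻¹ * c * m) := by group
  have := mul_mem (mul_mem hm (hn h1)) (inv_mem hm)
  simpa [mul_assoc] using this

theorem Hyp.nice_conj_iff {v m : G} (hm : m ∈ M) : Nice M (m * v * m⁻¹) ↔ Nice M v :=
  ⟨fun hn => by simpa [mul_assoc] using h.nice_conj (inv_mem hm) hn, h.nice_conj hm⟩

theorem Hyp.not_nice (hY : MaxInt M V Y) {y : G} (hy : y ∈ Y) : ¬ Nice M y := fun hn => by
  obtain ⟨g, hg, hgY⟩ := hY.witness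
  exact hg (h.nice_fix (hY.le hy) hn (h.le (hgY y hy)))

theorem Hyp.exists_maxInt [Finite G] {v : G} (hv : v ∈ V) (hn : ¬ Nice M v) :
    ∃ Y, MaxInt M V Y ∧ v ∈ Y := by
  classical
  let P : Subgroup G → Prop := fun Y =>
    Y ≤ V ∧ v ∈ Y ∧ ∃ g : G, g ∉ M ∧ ∀ y ∈ Y, g * y * g⁻¹ ∈ V
  obtain ⟨c, hc, hcM⟩ := SetLike.not_le_iff_exists.1 hn
  have hP : P (zpowers v) := by
    refine ⟨zpowers_le.2 hv, mem_zpowers v, c, hcM, ?_⟩
    intro y hy
    obtain ⟨k, rfl⟩ := mem_zpowers_iff.1 hy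
    rw [← conj_zpow]
    refine zpow_mem ?_ k
    rw [mem_centralizer_singleton_iff.1 hc, mul_inv_cancel_right]
    exact hv
  obtain ⟨Y, -, ⟨hYV, hvY, g, hg, hgY⟩, hmax⟩ :=
    Finite.exists_le_maximal (p := P) hP |> fun ⟨Y, h1, h2⟩ => (⟨Y, h1, h2.prop, fun Z hZ hle => h2.le_of_ge hZ hle⟩ :
      ∃ Y, zpowers v ≤ Y ∧ P Y ∧ ∀ Z, P Z → Y ≤ Z → Z ≤ Y)
  refine ⟨Y, ⟨hYV, ⟨g, hg, hgY⟩, fun g' hg' hY' w hw hgw => ?_⟩, hvY⟩
  have hP' : P (Y ⊔ zpowers w) := by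
    refine ⟨sup_le hYV (zpowers_le.2 hw), mem_sup_left hvY, g', hg', fun y hy => ?_⟩
    have hle : Y ⊔ zpowers w ≤ V.comap (MulAut.conj g').toMonoidHom :=
      sup_le (fun y hy => hY' y hy) (zpowers_le.2 hgw)
    exact hle hy
  exact hmax _ hP' le_sup_left (mem_sup_right (mem_zpowers w))

end Cfsg.Agent.Lib.QTUnique
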