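import Cfsg.Agent.Lib.QTUnique.Local

/-!
# The complement normalized by the torus
-/

set_option autoImplicit false

namespace Cfsg.Agent.Lib.QTUnique

open Subgroup

universe u

variable {G : Type u} [Group G] [Finite G] {M V Y : Subgroup G}

theorem exists_torus (hcrit : Crit59.CritProp.{u}) (h : Hyp M V) (hY : MaxInt M V Y)
    (hz : ∃ z ∈ V, Nice M z) {a b : G} (ha : a ∈ V) (hb : b ∈ V) (haY : a ∉ Y) (hbY : b ∉ Y)
    (habY : a * b ∉ Y) : ∃ E : Subgroup G, Torus M V Y E := by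
  classical
  haveI : Fact (Nat.Prime 2) := ⟨Nat.prime_two⟩
  obtain ⟨K, hKM, hKY, hKt, hK2⟩ := exists_transitive hcrit h hY hz ha hb haY hbY habY
  letI : CommGroup V :=
    { (inferInstance : Group V) with mul_comm := fun x y => Subtype.ext (h.comm x.2 y.2) }
  have hsq : ∀ v : V, v * v = 1 := fun v => Subtype.ext (h.sq _ v.2)
  have hnorm : ∀ k : K, ∀ v : V, (k : G) * v * (k : G)⁻¹ ∈ V := fun k v =>
    h.norm _ (hKM k.2) _ v.2
  let ψ : K →* MulAut V :=
    { toFun := fun k =>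
        { toFun := fun v => ⟨(k : G) * v * (k : G)⁻¹, hnorm k v⟩
          invFun := fun v => ⟨((k⁻¹ : K) : G) * v * ((k⁻¹ : K) : G)⁻¹, hnorm k⁻¹ v⟩
          left_inv := fun v => Subtype.ext (by simp only [coe_inv]; group)
          right_inv := fun v => Subtype.ext (by simp only [coe_inv]; group)
          map_mul' := fun v w => Subtype.ext (by simp only [coe_mul]; group) }
      map_one' := by
        ext v
        simp
      map_mul' := fun k l => by
        ext v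
        show ((k * l : K) : G) * v * ((k * l : K) : G)⁻¹ =
          (k : G) * ((l : G) * v * (l : G)⁻¹) * (k : G)⁻¹
        rw [coe_mul]; group }
  have hψ : ∀ (k : K) (v : V), ((ψ k v : V) : G) = (k : G) * v * (k : G)⁻¹ := fun _ _ => rfl
  set J := ψ.range
  set Y₁ := Y.subgroupOf V with hY₁
  have hJY : ∀ j : J, ∀ y ∈ Y₁, (j : MulAut V) y = y := by
    rintro ⟨_, k, rfl⟩ y hy
    exact Subtype.ext (hKY k k.2 _ hy)
  -- the kernel on `V/Y`
  let J₁ : Subgroup J :=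
    { carrier := {j | ∀ v : V, (j : MulAut V) v * v⁻¹ ∈ Y₁}
      one_mem' := fun v => by simp
      mul_mem' := fun {i j} hi hj v => by
        show (i : MulAut V) ((j : MulAut V) v) * v⁻¹ ∈ Y₁
        have := mul_mem (hi ((j : MulAut V) v)) (hj v)
        simpa [mul_assoc] using this
      inv_mem' := fun {i} hi v => by
        have h1 := inv_mem (hi ((i : MulAut V)⁻¹ v))
        simp only [MulAut.apply_inv_self, mul_inv_rev, inv_inv] at h1
        simpa using h1 }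
  have hJ₁ : ∀ j : J, j ∈ J₁ ↔ ∀ v : V, (j : MulAut V) v * v⁻¹ ∈ Y₁ := fun _ => Iff.rfl
  haveI : J₁.Normal := by
    refine ⟨fun j hj g v => ?_⟩
    have h1 := hj ((g : MulAut V)⁻¹ v)
    have h2 := hJY g _ h1
    rw [map_mul, map_inv, MulAut.apply_inv_self] at h2
    show (g : MulAut V) ((j : MulAut V) ((g : MulAut V)⁻¹ v)) * v⁻¹ ∈ Y₁
    rw [h2]
    exact h1
  have hJ₁2 : ∀ j ∈ J₁, j ^ 2 = 1 := by
    intro j hj
    refine Subtype.ext (MulEquiv.ext fun v => ?_)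
    show ((j : MulAut V) ^ 2) v = v
    rw [pow_two, MulAut.mul_apply]
    obtain ⟨y, hy, hyv⟩ : ∃ y ∈ Y₁, (j : MulAut V) v = y * v := ⟨_, hj v, by group⟩
    rw [hyv, map_mul, hJY j y hy, hyv, ← mul_assoc, hsq, one_mul]
  have hJ₁card : ∃ i, Nat.card J₁ = 2 ^ i := IsPGroup.iff_card.1 (fun j => ⟨1, Subtype.ext (by
    simpa using hJ₁2 j j.2)⟩)
  have hidx : Odd J₁.index := by
    obtain ⟨S⟩ := (inferInstance : Nonempty (Sylow 2 K))
    let S' := S.mapSurjective ψ.rangeRestrict_surjective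
    have hle : (S' : Subgroup J) ≤ J₁ := by
      rintro _ ⟨k, hk, rfl⟩ v
      obtain ⟨i, hi⟩ := S.isPGroup' ⟨k, hk⟩
      exact hK2 k k.2 ⟨i, congrArg (fun x : S => ((x : K) : G)) hi |>.trans rfl⟩ _ v.2
    rw [← Nat.not_even_iff_odd, even_iff_two_dvd]
    exact fun hd => S'.not_dvd_index (hd.trans (Subgroup.index_dvd_of_le hle))
  obtain ⟨A, hA⟩ := exists_right_complement'_of_coprime (N := J₁) (by
    obtain ⟨i, hi⟩ := hJ₁card
    rw [hi]
    exact Nat.Coprime.pow_left i (Nat.coprime_two_left.2 hidx))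
  have hAodd : Odd (Nat.card A) := hA.symm.index_eq_card ▸ hidx
  -- `A` is transitive outside `Y` modulo `Y`
  have htransA : ∀ u w : V, u ∉ Y₁ → w ∉ Y₁ → ∃ α ∈ A, (α : MulAut V) u * w⁻¹ ∈ Y₁ := by
    intro u w hu hw
    obtain ⟨k, hk, hkuw⟩ := hKt _ u.2 _ w.2 hu hw
    obtain ⟨j₁, hj₁, α, hα, hjα⟩ : ∃ j₁ ∈ J₁, ∃ α ∈ A, j₁ * α = ψ.rangeRestrict ⟨k, hk⟩ := by
      obtain ⟨⟨⟨j₁, h1⟩, ⟨α, h2⟩⟩, he, -⟩ := Subgroup.isComplement_iff_existsUnique.1 hA
        (ψ.rangeRestrict ⟨k, hk⟩)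
      exact ⟨j₁, h1, α, h2, he⟩
    refine ⟨α, hα, ?_⟩
    have h1 := hj₁ ((α : MulAut V) u)
    have h2 : (j₁ : MulAut V) ((α : MulAut V) u) = ψ ⟨k, hk⟩ u := by
      rw [← MulAut.mul_apply, ← coe_mul, hjα]; rfl
    rw [h2] at h1
    have h3 : ψ ⟨k, hk⟩ u * w⁻¹ ∈ Y₁ := hkuw
    have h4 := mul_mem (inv_mem h1) h3
    rwa [mul_inv_rev, inv_inv, mul_assoc, inv_mul_cancel_left] at h4
  -- three cosets other than `Y`
  set av : V := ⟨a, ha⟩
  set bv : V := ⟨b, hb⟩
  have hother : ∀ u : V, ∃ w : V, w ∉ Y₁ ∧ u * w⁻¹ ∉ Y₁ := by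
    intro u
    by_cases h1 : u * av⁻¹ ∈ Y₁
    · refine ⟨bv, hbY, fun h2 => habY ?_⟩
      have h3 := mul_mem (inv_mem h1) h2
      rw [mul_inv_rev, inv_inv, mul_assoc, inv_mul_cancel_left] at h3
      have h4 : bv⁻¹ = bv := inv_eq_of_mul_eq_one_right (hsq bv)
      rw [h4] at h3
      exact h3
    · exact ⟨av, haY, h1⟩
  haveI := Fintype.ofFinite A
  let P : V →* V :=
    { toFun := fun v => ∏ α : A, (α.1 : MulAut V) v
      map_one' := by simp
      map_mul' := fun v w => by simp [Finset.prod_mul_distrib] }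
  have hPY : ∀ v, P v ∈ Y₁ := by
    intro v
    by_contra hv
    obtain ⟨w, hw, hwv⟩ := hother (P v)
    obtain ⟨α, hα, hαv⟩ := htransA _ w hv hw
    have hfix : (α : MulAut V) (P v) = P v := by
      show (α : MulAut V) (∏ β : A, (β.1 : MulAut V) v) = ∏ β : A, (β.1 : MulAut V) v
      rw [map_prod]
      exact Fintype.prod_equiv (Equiv.mulLeft ⟨α, hα⟩) _ _ fun β => rfl
    rw [hfix] at hαv
    exact hwv hαv
  have hPfix : ∀ y ∈ Y₁, P y = y := by
    intro y hy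
    show ∏ β : A, (β.1 : MulAut V) y = y
    rw [Finset.prod_congr rfl fun β _ => hJY β.1 y hy, Finset.prod_const, Finset.card_univ]
    obtain ⟨k, hk⟩ := hAodd
    rw [← Nat.card_eq_fintype_card, hk, pow_succ, pow_mul, pow_two, hsq, one_pow, one_mul]
  set E₁ := P.ker
  have hPinv : ∀ α ∈ A, ∀ v, P ((α : MulAut V) v) = P v := by
    intro α hα v
    exact Fintype.prod_equiv (Equiv.mulRight ⟨α, hα⟩) _ _ fun β => rfl
  have hdis : ∀ v, v ∈ Y₁ → v ∈ E₁ → v = 1 := fun v hv he => (hPfix v hv).symm.trans he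
  have hsplit : ∀ v : V, (P v)⁻¹ * v ∈ E₁ := fun v => by
    show P _ = 1
    rw [map_mul, map_inv, hPfix _ (hPY v), inv_mul_cancel]
  -- elements of `M` inducing members of `J`
  have hlift : ∀ j : J, ∃ k ∈ K, ∀ v : V, (((j : MulAut V) v : V) : G) = k * v * k⁻¹ := by
    rintro ⟨_, k, rfl⟩
    exact ⟨k, k.2, fun v => rfl⟩
  refine ⟨E₁.map V.subtype, map_subtype_le _, ?_, ?_, ?_, ?_, ?_⟩
  · rw [eq_bot_iff]
    rintro _ ⟨hy, v, hv, rfl⟩
    rw [hdis v hy hv]
    exact one_mem _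
  · intro v hv
    refine ⟨(P ⟨v, hv⟩ : V), hPY _, ((P ⟨v, hv⟩)⁻¹ * ⟨v, hv⟩ : V), ⟨_, hsplit _, rfl⟩, ?_⟩
    rw [← coe_mul, mul_inv_cancel_left]
  · intro g
    have hne : ∀ v : V, v ∉ Y₁ → (((P v)⁻¹ * v : V) : G) ≠ 1 := fun v hv hc => hv (by
      have h1 : (P v)⁻¹ * v = 1 := Subtype.ext hc
      rw [← inv_mul_eq_one.1 h1]
      exact hPY v)
    have hne2 : (((P av)⁻¹ * av : V) : G) ≠ (((P bv)⁻¹ * bv : V) : G) := fun hc => habY (by
      have h1 : (P av)⁻¹ * av = (P bv)⁻¹ * bv := Subtype.ext hc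
      have h2 : av * bv = P av * (P bv)⁻¹ := by
        calc av * bv = P av * ((P av)⁻¹ * av) * bv := by rw [mul_inv_cancel_left]
          _ = P av * ((P bv)⁻¹ * bv) * bv := by rw [h1]
          _ = P av * (P bv)⁻¹ := by rw [mul_assoc, mul_assoc, hsq, mul_one]
      have h3 : av * bv ∈ Y₁ := h2 ▸ mul_mem (hPY _) (inv_mem (hPY _))
      exact h3)
    by_cases hg : g = (((P av)⁻¹ * av : V) : G)
    · exact ⟨_, ⟨_, hsplit bv, rfl⟩, hne bv hbY, fun hc => hne2 (hg ▸ hc.symm)⟩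
    · exact ⟨_, ⟨_, hsplit av, rfl⟩, hne av haY, fun hc => hg hc.symm⟩
  · rintro _ ⟨e, he, rfl⟩ _ ⟨e', he', rfl⟩ he1 he'1
    obtain ⟨α, hα, hαe⟩ := htransA e e' (fun hc => he1 (by rw [hdis e hc he]; rfl))
      (fun hc => he'1 (by rw [hdis e' hc he']; rfl))
    have h1 : (α : MulAut V) e ∈ E₁ := by show P _ = 1; rw [hPinv α hα]; exact he
    have h2 : (α : MulAut V) e = e' := mul_inv_eq_one.1 (hdis _ hαe (mul_mem h1 (inv_mem he')))
    obtain ⟨k, hk, hkv⟩ := hlift α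
    exact ⟨k, hKM hk, hKY k hk, (hkv e).symm.trans (by rw [h2]; rfl)⟩
  · have hAne : Nat.card A ≠ 1 := fun hc => by
      obtain ⟨w, hw, hwa⟩ := hother av
      obtain ⟨α, hα, hαa⟩ := htransA av w haY hw
      have hA1 : A = ⊥ := card_eq_one.1 hc
      rw [hA1, mem_bot] at hα
      rw [hα] at hαa
      exact hwa hαa
    obtain ⟨p, hp, hpd⟩ := Nat.exists_prime_and_dvd hAne
    haveI : Fact p.Prime := ⟨hp⟩
    obtain ⟨α, hα⟩ := exists_prime_orderOf_dvd_card' (G := A) p hpd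
    refine ⟨p, hp, fun hp2 => Nat.not_even_iff_odd.2 hAodd (even_iff_two_dvd.2 (hp2 ▸ hpd)), ?_⟩
    obtain ⟨k, hk, hkv⟩ := hlift (α : J)
    refine ⟨k, hKM hk, hKY k hk, ?_, fun hc => ?_, ?_⟩
    · rintro _ ⟨e, he, rfl⟩
      exact ⟨((α : J) : MulAut V) e,
        by show P _ = 1; rw [hPinv _ α.2]; exact he, hkv e⟩
    · have h1 : α = 1 := Subtype.ext (Subtype.ext (MulEquiv.ext fun v => Subtype.ext (by
        rw [hkv v, ← mem_centralizer_iff.1 hc _ v.2, mul_inv_cancel_right]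
        rfl)))
      rw [h1, orderOf_one] at hα
      exact hp.one_lt.ne hα
    · refine mem_centralizer_iff.2 fun v hv => ?_
      have hpow : ∀ n : ℕ, ∀ w : V,
          (((((α : J) : MulAut V) ^ n) w : V) : G) = k ^ n * w * (k ^ n)⁻¹ := by
        intro n
        induction n with
        | zero => simp
        | succ n ih =>
          intro w
          rw [pow_succ', MulAut.mul_apply, hkv, ih, pow_succ']
          group
      have h1 := hpow p ⟨v, hv⟩
      have h2 : ((α : J) : MulAut V) ^ p = 1 := by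
        have := congrArg (fun x : A => ((x : J) : MulAut V)) (pow_orderOf_eq_one α)
        rw [hα] at this
        simpa using this
      rw [h2] at h1
      calc v * k ^ p = k ^ p * v * (k ^ p)⁻¹ * k ^ p := by rw [← h1]; rfl
        _ = k ^ p * v := by group

end Cfsg.Agent.Lib.QTUnique
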