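import Mathlib.GroupTheory.QuotientGroup.Basic
import Mathlib.GroupTheory.Index

/-!
# Splittings of an elementary abelian `2`-group adapted to a spanning set

`complement_le`: two subgroups `Y`, `Y'` avoiding a spanning set `S`, each with a complement such
that membership in `S` of `y * e` does not depend on `e ≠ 1`: the complement of `Y` lies in `Y'`.
-/

set_option autoImplicit false

namespace Cfsg.Agent.Lib.QTUnique.Linear

open Subgroup

variable {V : Type*} [CommGroup V]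

/-- `S` avoids `Y`, and on `y * e` with `e ∈ E`, `e ≠ 1` it depends only on `y`. -/
structure Split (S : Set V) (Y E : Subgroup V) : Prop where
  avoid : ∀ y ∈ Y, y ∉ S
  inf_eq : Y ⊓ E = ⊥
  sup_eq : Y ⊔ E = ⊤
  coset : ∀ y ∈ Y, ∀ e ∈ E, ∀ e' ∈ E, e ≠ 1 → e' ≠ 1 → y * e ∈ S → y * e' ∈ S
  two : ∀ a : V, ∃ e ∈ E, e ≠ 1 ∧ e ≠ a

theorem complement_le (h2 : ∀ v : V, v * v = 1) {S : Set V} (hspan : closure S = ⊤)
    {Y Y' E E' : Subgroup V} (hY : Split S Y E) (hY' : Split S Y' E') (hne : ¬ Y' ≤ Y) :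
    E ≤ Y' := by
  have hinv : ∀ v : V, v⁻¹ = v := fun v => inv_eq_of_mul_eq_one_right (h2 v)
  -- `y' * e` is outside `S` for `y' ∈ Y' \ Y`, `e ∈ E`
  have hA : ∀ y' ∈ Y', y' ∉ Y → ∀ e ∈ E, y' * e ∉ S := by
    intro y' hy' hy'Y e he hS
    obtain ⟨y, hy, e₁, he₁, rfl⟩ := mem_sup.1 (hY.sup_eq ▸ mem_top y')
    have he₁1 : e₁ ≠ 1 := fun h => hy'Y (by rwa [h, mul_one])
    by_cases h1 : e₁ * e = 1
    · exact hY.avoid y hy (by rwa [mul_assoc, h1, mul_one] at hS)
    · rw [mul_assoc] at hS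
      exact hY'.avoid _ hy' (hY.coset y hy _ (mul_mem he₁ he) e₁ he₁ h1 he₁1 hS)
  -- the projections of `S` and of `E \ Y'` to `Y'` differ by elements of `Y`
  have hB : ∀ ys ∈ Y', ∀ es ∈ E', ys * es ∈ S → ∀ ye ∈ Y', ∀ ee ∈ E', ye * ee ∈ E →
      ye * ee ∉ Y' → ys * ye ∈ Y := by
    intro ys hys es hes hs ye hye ee hee he heY
    by_contra hW
    have hee1 : ee ≠ 1 := fun h => heY (by rwa [h, mul_one])
    have hes1 : es ≠ 1 := fun h => hY'.avoid ys hys (by rwa [h, mul_one] at hs)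
    refine hA (ys * ye) (mul_mem hys hye) hW (ye * ee) he ?_
    have : ys * ye * (ye * ee) = ys * ee := by
      rw [mul_assoc, ← mul_assoc ye ye, h2, one_mul]
    rw [this]
    exact hY'.coset ys hys es hes ee hee hes1 hee1 hs
  by_contra hE
  obtain ⟨e, he, heY⟩ := SetLike.not_le_iff_exists.1 hE
  obtain ⟨ye, hye, ee, hee, rfl⟩ := mem_sup.1 (hY'.sup_eq ▸ mem_top e)
  by_cases h0 : ∃ e₀ ∈ E, e₀ ∈ Y' ∧ e₀ ≠ 1
  · obtain ⟨e₀, he₀, he₀Y, he₀1⟩ := h0
    obtain ⟨s, hs⟩ : ∃ s, s ∈ S := by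
      by_contra hS
      push Not at hS
      have hSe : S = ∅ := Set.eq_empty_iff_forall_notMem.2 hS
      rw [hSe, Subgroup.closure_empty] at hspan
      exact he₀1 (mem_bot.1 (hspan ▸ mem_top e₀))
    obtain ⟨ys, hys, es, hes, rfl⟩ := mem_sup.1 (hY'.sup_eq ▸ mem_top s)
    have h1 := hB ys hys es hes hs ye hye ee hee he heY
    have he' : ye * e₀ * ee ∈ E := by
      rw [mul_right_comm]; exact mul_mem he he₀
    have he'Y : ye * e₀ * ee ∉ Y' := fun h => heY (by
      have := mul_mem h he₀Y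
      rwa [mul_right_comm ye, mul_assoc, h2, mul_one] at this)
    have h3 := hB ys hys es hes hs (ye * e₀) (mul_mem hye he₀Y) ee hee he' he'Y
    have h4 := mul_mem (inv_mem h1) h3
    rw [← mul_assoc ys, inv_mul_cancel_left] at h4
    exact he₀1 (mem_bot.1 (hY.inf_eq ▸ ⟨h4, he₀⟩))
  · push Not at h0
    obtain ⟨f, hf, hf1, hfe⟩ := hY.two (ye * ee)
    obtain ⟨yf, hyf, ef, hef, rfl⟩ := mem_sup.1 (hY'.sup_eq ▸ mem_top f)
    have hfY : yf * ef ∉ Y' := fun h => hf1 (h0 _ hf h)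
    have hprod : ye * yf * (ee * ef) = ye * ee * (yf * ef) := mul_mul_mul_comm _ _ _ _
    have hefY : ye * yf * (ee * ef) ∉ Y' := fun h => hfe (by
      rw [hprod] at h
      have := h0 _ (mul_mem he hf) h
      rw [← hinv (ye * ee)]
      exact (inv_eq_of_mul_eq_one_right this).symm)
    have hmem : ye * yf * (ee * ef) ∈ E := hprod ▸ mul_mem he hf
    have hW : ∀ ys ∈ Y', ∀ es ∈ E', ys * es ∈ S → ys ∈ Y := by
      intro ys hys es hes hs
      have h1 := hB ys hys es hes hs ye hye ee hee he heY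
      have h3 := hB ys hys es hes hs yf hyf ef hef hf hfY
      have h5 := hB ys hys es hes hs _ (mul_mem hye hyf) _ (mul_mem hee hef) hmem hefY
      have := mul_mem (mul_mem h1 h3) h5
      have e5 : ys * ye * (ys * yf) * (ys * (ye * yf)) = ys := by
        calc ys * ye * (ys * yf) * (ys * (ye * yf))
            = ys * (ys * ys) * (ye * ye) * (yf * yf) := by
              simp only [mul_comm, mul_left_comm]
          _ = ys := by rw [h2, h2, h2, mul_one, mul_one, mul_one]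
      rwa [e5] at this
    apply hne
    have hcl : closure S ≤ Y ⊓ Y' ⊔ E' := by
      rw [closure_le]
      intro s hs
      obtain ⟨ys, hys, es, hes, rfl⟩ := mem_sup.1 (hY'.sup_eq ▸ mem_top s)
      exact mul_mem (mem_sup_left ⟨hW ys hys es hes hs, hys⟩) (mem_sup_right hes)
    intro y hy
    obtain ⟨w, hw, e', he', hwe⟩ := mem_sup.1 (hcl (hspan ▸ mem_top y))
    have he'1 : e' = 1 := mem_bot.1 (hY'.inf_eq ▸ ⟨by
      have hwY : w ∈ Y' := hw.2
      have := mul_mem (inv_mem hwY) hy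
      rwa [← hwe, inv_mul_cancel_left] at this, he'⟩)
    rw [← hwe, he'1, mul_one]
    exact hw.1

end Cfsg.Agent.Lib.QTUnique.Linear
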