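import Cfsg.Agent.Lib.PGroupTheory.RankTwoMain

/-!
# Elementary quotients of `p`-groups of rank at most two, `p` odd
-/

set_option autoImplicit false

namespace Cfsg.Agent.Lib.QTUnique.RankTwoQuot

open Cfsg Cfsg.Agent.Lib Cfsg.Agent.Lib.PGroupTheory

/-- An elementary abelian image of a `p`-group of rank at most two has order at most `p³`. -/
theorem card_le {P B : Type*} [Group P] [Finite P] [CommGroup B] {p : ℕ} [hp : Fact p.Prime]
    (hp2 : p ≠ 2) (hP : IsPGroup p P) (hrk : PRankLE p 2 P) (f : P →* B)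
    (hf : Function.Surjective f) (hB : ∀ b : B, b ^ p = 1) : Nat.card B ≤ p ^ 3 := by
  have h1p : 1 ≤ p := hp.out.one_le
  by_cases hc : IsCyclic P
  · haveI : IsCyclic B := isCyclic_of_surjective f hf
    obtain ⟨g, hg⟩ := IsCyclic.exists_generator (α := B)
    rw [← orderOf_eq_card_of_forall_mem_zpowers hg]
    exact (Nat.le_of_dvd hp.out.pos (orderOf_dvd_of_pow_eq_one (hB g))).trans
      (Nat.le_self_pow (by norm_num) p)
  obtain ⟨W, hWn, hW, hWc⟩ := PGroups.exists_normal_elemAb_sq hp2 hP hc
  haveI := hWn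
  obtain ⟨hR, hcard⟩ := RankTwo.centralizer_regular hP hp2 hrk hW hWc
  set C := Subgroup.centralizer (W : Set P) with hC
  have hidx : C.index ≤ p := by
    by_cases hWZ : W ≤ Subgroup.center P
    · rw [Subgroup.index_eq_one.2 (Subgroup.centralizer_eq_top_iff_subset.2 hWZ)]
      exact h1p
    · exact (RankTwo.index_centralizer hP hW hWc hWZ).le
  have hker : powerClosure p 1 (⊤ : Subgroup C) ≤ (f.comp C.subtype).ker := by
    unfold powerClosure
    rw [Subgroup.closure_le]
    intro x hx
    simp only [SetLike.mem_coe, MonoidHom.mem_ker, MonoidHom.comp_apply] at *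
    obtain ⟨y, -, rfl⟩ := hx
    simp [map_pow, hB]
  have himg : Nat.card (C.map f) ≤ p ^ 2 := by
    have h1 : C.map f = (f.comp C.subtype).range := by
      rw [MonoidHom.range_eq_map, ← Subgroup.map_map, ← MonoidHom.range_eq_map,
        Subgroup.range_subtype]
    rw [h1, ← Subgroup.index_ker, ← hcard, ← index_powerClosure_eq (hP.to_subgroup C) hR]
    exact Nat.le_of_dvd (Nat.pos_of_ne_zero Subgroup.FiniteIndex.index_ne_zero)
      (Subgroup.index_dvd_of_le hker)
  calc Nat.card B = (C.map f).index * Nat.card (C.map f) := by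
        rw [mul_comm, Subgroup.card_mul_index]
    _ ≤ p * p ^ 2 := by
        refine Nat.mul_le_mul (le_trans ?_ hidx) himg
        exact Nat.le_of_dvd (Nat.pos_of_ne_zero Subgroup.FiniteIndex.index_ne_zero)
          (Subgroup.index_map_dvd _ hf)
    _ = p ^ 3 := by ring

end Cfsg.Agent.Lib.QTUnique.RankTwoQuot
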