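import Cfsg.Agent.Lib.QTUnique.Complement
import Cfsg.Agent.Lib.QTUnique.Linear
import Cfsg.Agent.Lib.QTUnique.RankTwoQuot

/-!
# All involutions of `V` have their centralizers in `M`

`all_nice`: with `V` irreducible, `T ≤ [M,M]`, the `T`-fixed elements nice and odd local rank at
most two, every nontrivial element of `V` is nice.
-/

set_option autoImplicit false

namespace Cfsg.Agent.Lib.QTUnique

open Subgroup
open scoped commutatorElement

universe u

variable {G : Type u} [Group G] {M V Y E : Subgroup G}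

/-- The conjugate `m A m⁻¹`. -/
abbrev cj (m : G) (A : Subgroup G) : Subgroup G := A.map (MulAut.conj m).toMonoidHom

theorem mem_cj {m x : G} {A : Subgroup G} : x ∈ cj m A ↔ m⁻¹ * x * m ∈ A := by
  constructor
  · rintro ⟨a, ha, rfl⟩
    simpa [MulAut.conj_apply, mul_assoc] using ha
  · intro hx
    exact ⟨_, hx, by simp [MulAut.conj_apply, mul_assoc]⟩

theorem cj_le (h : Hyp M V) {m : G} (hm : m ∈ M) {A : Subgroup G} (hA : A ≤ V) : cj m A ≤ V := by
  rintro _ ⟨a, ha, rfl⟩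
  exact h.norm m hm a (hA ha)

theorem MaxInt.conj (h : Hyp M V) (hY : MaxInt M V Y) {m : G} (hm : m ∈ M) :
    MaxInt M V (cj m Y) := by
  obtain ⟨g, hg, hgY⟩ := hY.witness
  refine ⟨cj_le h hm hY.le, ⟨g * m⁻¹, fun hc => hg ?_, fun y hy => ?_⟩, fun g' hg' hY' v hv hgv => ?_⟩
  · simpa using mul_mem hc hm
  · have := hgY _ (mem_cj.1 hy)
    simpa [mul_assoc] using this
  · refine mem_cj.2 (hY.max (g' * m) (fun hc => hg' ?_) (fun y hy => ?_) _ ?_ ?_)
    · simpa using mul_mem hc (inv_mem hm)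
    · have := hY' (m * y * m⁻¹) ⟨y, hy, rfl⟩
      simpa [mul_assoc] using this
    · simpa using h.norm m⁻¹ (inv_mem hm) v hv
    · simpa [mul_assoc] using hgv

variable [Finite G]

/-- The torus in the automorphism group of `V`, transported to a conjugate. -/
structure Member (M V : Subgroup G) (p : ℕ) (Y E : Subgroup G) (k : G) : Prop where
  maxInt : MaxInt M V Y
  le : E ≤ V
  inf_eq : Y ⊓ E = ⊥
  sup_eq : ∀ v ∈ V, ∃ y ∈ Y, ∃ e ∈ E, y * e = v
  two : ∀ a : G, ∃ e ∈ E, e ≠ 1 ∧ e ≠ a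
  trans : ∀ e ∈ E, ∀ e' ∈ E, e ≠ 1 → e' ≠ 1 →
    ∃ m ∈ M, (∀ y ∈ Y, m * y * m⁻¹ = y) ∧ m * e * m⁻¹ = e'
  memM : k ∈ M
  fixY : ∀ y ∈ Y, k * y * k⁻¹ = y
  normE : ∀ e ∈ E, k * e * k⁻¹ ∈ E
  notC : k ∉ centralizer (V : Set G)
  powC : k ^ p ∈ centralizer (V : Set G)

omit [Finite G] in
theorem Member.conj {p : ℕ} {k : G} (h : Hyp M V) (hE : Member M V p Y E k) {m : G} (hm : m ∈ M) :
    Member M V p (cj m Y) (cj m E) (m * k * m⁻¹) := by
  have hC : ∀ x, m * x * m⁻¹ ∈ centralizer (V : Set G) → x ∈ centralizer (V : Set G) := by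
    intro x hx
    refine mem_centralizer_iff.2 fun v hv => ?_
    have := mem_centralizer_iff.1 hx _ (h.norm m hm v hv)
    calc v * x = m⁻¹ * (m * v * m⁻¹ * (m * x * m⁻¹)) * m := by group
      _ = m⁻¹ * (m * x * m⁻¹ * (m * v * m⁻¹)) * m := by rw [this]
      _ = x * v := by group
  refine ⟨hE.maxInt.conj h hm, cj_le h hm hE.le, ?_, ?_, ?_, ?_,
    mul_mem (mul_mem hm hE.memM) (inv_mem hm), ?_, ?_, fun hc => hE.notC (hC k hc), ?_⟩
  · rw [cj, cj, ← Subgroup.map_inf _ _ _ (MulAut.conj m).injective, hE.inf_eq, Subgroup.map_bot]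
  · intro v hv
    obtain ⟨y, hy, e, he, hye⟩ := hE.sup_eq (m⁻¹ * v * m)
      (by simpa using h.norm m⁻¹ (inv_mem hm) v hv)
    refine ⟨m * y * m⁻¹, ⟨y, hy, rfl⟩, m * e * m⁻¹, ⟨e, he, rfl⟩, ?_⟩
    calc m * y * m⁻¹ * (m * e * m⁻¹) = m * (y * e) * m⁻¹ := by group
      _ = v := by rw [hye]; group
  · intro a
    obtain ⟨e, he, he1, hea⟩ := hE.two (m⁻¹ * a * m)
    refine ⟨m * e * m⁻¹, ⟨e, he, rfl⟩, fun hc => he1 (conj_eq_one_iff.1 hc), fun hc => hea ?_⟩
    rw [← hc]; group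
  · rintro _ ⟨e, he, rfl⟩ _ ⟨e', he', rfl⟩ he1 he'1
    obtain ⟨x, hx, hxY, hxe⟩ := hE.trans e he e' he' (fun hc => he1 (by simp [hc]))
      (fun hc => he'1 (by simp [hc]))
    refine ⟨m * x * m⁻¹, mul_mem (mul_mem hm hx) (inv_mem hm), ?_, ?_⟩
    · rintro _ ⟨y, hy, rfl⟩
      have := hxY y hy
      show m * x * m⁻¹ * (m * y * m⁻¹) * (m * x * m⁻¹)⁻¹ = m * y * m⁻¹
      calc _ = m * (x * y * x⁻¹) * m⁻¹ := by group
        _ = _ := by rw [this]
    · show m * x * m⁻¹ * (m * e * m⁻¹) * (m * x * m⁻¹)⁻¹ = m * e' * m⁻¹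
      calc _ = m * (x * e * x⁻¹) * m⁻¹ := by group
        _ = _ := by rw [hxe]
  · rintro _ ⟨y, hy, rfl⟩
    show m * k * m⁻¹ * (m * y * m⁻¹) * (m * k * m⁻¹)⁻¹ = m * y * m⁻¹
    calc _ = m * (k * y * k⁻¹) * m⁻¹ := by group
      _ = _ := by rw [hE.fixY y hy]
  · rintro _ ⟨e, he, rfl⟩
    refine ⟨k * e * k⁻¹, hE.normE e he, ?_⟩
    show m * (k * e * k⁻¹) * m⁻¹ = m * k * m⁻¹ * (m * e * m⁻¹) * (m * k * m⁻¹)⁻¹
    group
  · rw [conj_pow]
    refine mem_centralizer_iff.2 fun v hv => ?_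
    have := mem_centralizer_iff.1 hE.powC _
      (show m⁻¹ * v * m ∈ V by simpa using h.norm m⁻¹ (inv_mem hm) v hv)
    calc v * (m * k ^ p * m⁻¹) = m * (m⁻¹ * v * m * k ^ p) * m⁻¹ := by group
      _ = m * (k ^ p * (m⁻¹ * v * m)) * m⁻¹ := by rw [this]
      _ = m * k ^ p * m⁻¹ * v := by group

/-- Four members contradict the rank hypothesis. -/
theorem four_members (h : Hyp M V) {p : ℕ} [Fact p.Prime] (hp2 : p ≠ 2)
    (hrank : Cfsg.PRankLE p 2 M) (Ys Es : Fin 4 → Subgroup G) (ks : Fin 4 → G)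
    (hmem : ∀ i, Member M V p (Ys i) (Es i) (ks i))
    (hsub : ∀ i j, i ≠ j → Es i ≤ Ys j) : False := by
  classical
  have hnorm : ∀ k : M, ∀ v : V, (k : G) * v * (k : G)⁻¹ ∈ V := fun k v => h.norm _ k.2 _ v.2
  let ψ : M →* MulAut V :=
    { toFun := fun k =>
        { toFun := fun v => ⟨(k : G) * v * (k : G)⁻¹, hnorm k v⟩
          invFun := fun v => ⟨((k⁻¹ : M) : G) * v * ((k⁻¹ : M) : G)⁻¹, hnorm k⁻¹ v⟩
          left_inv := fun v => Subtype.ext (by simp only [coe_inv]; group)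
          right_inv := fun v => Subtype.ext (by simp only [coe_inv]; group)
          map_mul' := fun v w => Subtype.ext (by simp only [coe_mul]; group) }
      map_one' := by
        ext v
        simp
      map_mul' := fun k l => by
        ext v
        show ((k * l : M) : G) * v * ((k * l : M) : G)⁻¹ =
          (k : G) * ((l : G) * v * (l : G)⁻¹) * (k : G)⁻¹
        rw [coe_mul]; group }
  set β : Fin 4 → MulAut V := fun i => ψ ⟨ks i, (hmem i).memM⟩ with hβ
  have hval : ∀ i v, ((β i v : V) : G) = ks i * v * (ks i)⁻¹ := fun _ _ => rfl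
  have hext : ∀ (i : Fin 4) (α α' : MulAut V), (∀ y : V, (y : G) ∈ Ys i → α y = α' y) →
      (∀ e : V, (e : G) ∈ Es i → α e = α' e) → α = α' := by
    intro i α α' hy he
    refine MulEquiv.ext fun v => ?_
    obtain ⟨y, hyY, e, heE, hye⟩ := (hmem i).sup_eq v v.2
    have : v = ⟨y, (hmem i).maxInt.le hyY⟩ * ⟨e, (hmem i).le heE⟩ := Subtype.ext hye.symm
    rw [this, map_mul, map_mul, hy ⟨y, (hmem i).maxInt.le hyY⟩ hyY,
      he ⟨e, (hmem i).le heE⟩ heE]
  have hfixY : ∀ i, ∀ y : V, (y : G) ∈ Ys i → β i y = y := fun i y hy =>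
    Subtype.ext ((hmem i).fixY _ hy)
  have hE : ∀ i, ∀ e : V, (e : G) ∈ Es i → ((β i e : V) : G) ∈ Es i := fun i e he =>
    (hmem i).normE _ he
  have hpres : ∀ i j, i ≠ j → ∀ y : V, (y : G) ∈ Ys i → ((β j y : V) : G) ∈ Ys i := by
    intro i j hij y hy
    obtain ⟨y', hy', e', he', hye⟩ := (hmem j).sup_eq y y.2
    have he'Y : e' ∈ Ys i := hsub j i hij.symm he'
    have hy'Y : y' ∈ Ys i := by
      have := mul_mem hy (inv_mem he'Y)
      rwa [← hye, mul_inv_cancel_right] at this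
    have hy0 : y = ⟨y', (hmem j).maxInt.le hy'⟩ * ⟨e', (hmem j).le he'⟩ := Subtype.ext hye.symm
    rw [hy0, map_mul, hfixY j _ hy', coe_mul]
    exact mul_mem hy'Y (hsub j i hij.symm (hE j ⟨e', (hmem j).le he'⟩ he'))
  have hcommβ : ∀ i j, β i * β j = β j * β i := by
    intro i j
    by_cases hij : i = j
    · rw [hij]
    refine hext i _ _ (fun y hy => ?_) (fun e he => ?_)
    · rw [MulAut.mul_apply, MulAut.mul_apply, hfixY i y hy, hfixY i _ (hpres i j hij y hy)]
    · rw [MulAut.mul_apply, MulAut.mul_apply, hfixY j e (hsub i j hij he),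
        hfixY j _ (hsub i j hij (hE i e he))]
  have hpowβ : ∀ i, β i ^ p = 1 := by
    intro i
    rw [hβ, ← map_pow]
    refine MulEquiv.ext fun v => Subtype.ext ?_
    show ((⟨ks i, (hmem i).memM⟩ ^ p : M) : G) * v * ((⟨ks i, (hmem i).memM⟩ ^ p : M) : G)⁻¹ = v
    rw [SubgroupClass.coe_pow, ← mem_centralizer_iff.1 (hmem i).powC _ v.2, mul_inv_cancel_right]
  have hneβ : ∀ i, β i ≠ 1 := fun i hc => (hmem i).notC (mem_centralizer_iff.2 fun v hv => by
    have h1 := congrArg (fun α : MulAut V => ((α ⟨v, hv⟩ : V) : G)) hc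
    simp only [hval, MulAut.one_apply] at h1
    exact (mul_inv_eq_iff_eq_mul.1 h1).symm)
  set B : Subgroup (MulAut V) := closure (Set.range β) with hB
  haveI hBc : IsMulCommutative B := Subgroup.isMulCommutative_closure (by
    rintro _ ⟨i, rfl⟩ _ ⟨j, rfl⟩
    exact hcommβ i j)
  letI : CommGroup B :=
    { (inferInstance : Group B) with mul_comm := fun x y => hBc.is_comm.comm x y }
  have hBp : ∀ x : B, x ^ p = 1 := by
    intro x
    have hle : B ≤ (((powMonoidHom p : B →* B).ker).map B.subtype) := by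
      refine (closure_le _).2 ?_
      rintro _ ⟨i, rfl⟩
      exact ⟨⟨β i, subset_closure ⟨i, rfl⟩⟩, Subtype.ext (hpowβ i), rfl⟩
    obtain ⟨y, hy, hyx⟩ := hle x.2
    rw [← Subtype.ext hyx]
    exact hy
  let b : Fin 4 → B := fun i => ⟨β i, subset_closure ⟨i, rfl⟩⟩
  have hcard : p ^ 4 ≤ Nat.card B := by
    have hinj : Function.Injective fun c : Fin 4 → Fin p => ∏ i, b i ^ (c i : ℕ) := by
      intro c d hcd
      funext i
      have key : ∀ (c : Fin 4 → Fin p) (e : V), (e : G) ∈ Es i →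
          ((∏ j, b j ^ (c j : ℕ) : B) : MulAut V) e = (β i ^ (c i : ℕ)) e := by
        intro c e he
        rw [← Finset.mul_prod_erase _ _ (Finset.mem_univ i), coe_mul, MulAut.mul_apply]
        congr 1
        refine Finset.prod_induction (fun j => b j ^ (c j : ℕ))
          (fun x : B => (x : MulAut V) e = e) (fun x y hx hy => ?_) rfl (fun j hj => ?_)
        · rw [coe_mul, MulAut.mul_apply, hy, hx]
        · rw [SubgroupClass.coe_pow]
          have h1 := hfixY j e (hsub i j (Finset.ne_of_mem_erase hj).symm he)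
          generalize (c j : ℕ) = n
          induction n with
          | zero => rfl
          | succ n ih => rw [pow_succ, MulAut.mul_apply, h1, ih]
      have heq : β i ^ (c i : ℕ) = β i ^ (d i : ℕ) := by
        refine hext i _ _ (fun y hy => ?_) (fun e he => ?_)
        · have h1 : ∀ n : ℕ, (β i ^ n) y = y := fun n => by
            induction n with
            | zero => rfl
            | succ n ih => rw [pow_succ, MulAut.mul_apply, hfixY i y hy, ih]
          rw [h1, h1]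
        · rw [← key c e he, ← key d e he]
          exact congrArg (fun x : B => (x : MulAut V) e) hcd
      have ho : orderOf (β i) = p := orderOf_eq_prime (hpowβ i) (hneβ i)
      refine Fin.ext ?_
      exact pow_injOn_Iio_orderOf (by rw [Set.mem_Iio, ho]; exact (c i).2)
        (by rw [Set.mem_Iio, ho]; exact (d i).2) heq
    have := Nat.card_le_card_of_injective _ hinj
    simpa using this
  -- lift to a `p`-subgroup of `M`
  set N := B.comap ψ
  let f : N →* B := (ψ.comp N.subtype).codRestrict B fun x => x.2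
  have hf : Function.Surjective f := by
    have hle : B ≤ ψ.range := by
      rw [hB, closure_le]
      rintro _ ⟨i, rfl⟩
      exact ⟨_, rfl⟩
    intro x
    obtain ⟨m, hm⟩ := hle x.2
    exact ⟨⟨m, by show ψ m ∈ B; rw [hm]; exact x.2⟩, Subtype.ext hm⟩
  obtain ⟨P⟩ := (inferInstance : Nonempty (Sylow p N))
  have hPf : ((P : Subgroup N).map f) = ⊤ := by
    have hBpg : IsPGroup p (⊤ : Subgroup B) := fun x => ⟨1, Subtype.ext (by simpa using hBp x)⟩
    exact ((P.mapSurjective hf).3 hBpg le_top).symm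
  have hfP : Function.Surjective (f.comp (P : Subgroup N).subtype) := by
    intro x
    obtain ⟨y, hy, hyx⟩ := (hPf ▸ mem_top x : x ∈ (P : Subgroup N).map f)
    exact ⟨⟨y, hy⟩, hyx⟩
  have := RankTwoQuot.card_le hp2 P.isPGroup'
    (PGroupTheory.RankTwo.prankLE_subgroup (PGroupTheory.RankTwo.prankLE_subgroup hrank N) P)
    _ hfP hBp
  have h34 : p ^ 3 < p ^ 4 :=
    Nat.pow_lt_pow_right (Fact.out : p.Prime).one_lt (by norm_num)
  omega

/-- **All involutions of `V` are nice.** -/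
theorem all_nice (hcrit : Crit59.CritProp.{u}) (h : Hyp M V) (T : Sylow 2 G)
    (hTM : (T : Subgroup G) ≤ M) (hVT : V ≤ T)
    (hirr : ∀ U : Subgroup G, U ≤ V → (∀ m ∈ M, ∀ u ∈ U, m * u * m⁻¹ ∈ U) → U = ⊥ ∨ U = V)
    (hfixnice : ∀ v ∈ V, v ≠ 1 → (∀ t ∈ (T : Subgroup G), Commute t v) → Nice M v)
    (hfocal : (T : Subgroup G) ≤ ⁅M, M⁆)
    (hrank : ∀ p : ℕ, p.Prime → p ≠ 2 → Cfsg.PRankLE p 2 M) (hV : V ≠ ⊥) :
    ∀ v ∈ V, v ≠ 1 → Nice M v := by
  classical
  haveI : Fact (Nat.Prime 2) := ⟨Nat.prime_two⟩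
  -- a nontrivial subgroup of `V` normalized by `T` has a nice element
  have hTnice : ∀ A : Subgroup G, A ≤ V → A ≠ ⊥ →
      (∀ t ∈ (T : Subgroup G), ∀ a ∈ A, t * a * t⁻¹ ∈ A) → ∃ a ∈ A, Nice M a := by
    intro A hAV hA hn
    haveI : (A.subgroupOf (T : Subgroup G)).Normal := ⟨fun a ha t => hn t t.2 a ha⟩
    have hA' : A.subgroupOf (T : Subgroup G) ≠ ⊥ := fun hc =>
      hA (by rw [← inf_eq_left.2 (hAV.trans hVT)]; exact subgroupOf_eq_bot.1 hc |>.eq_bot)
    obtain ⟨⟨a, ha⟩, ha1⟩ :=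
      ne_bot_iff_exists_ne_one.1 (PGroups.normal_inf_center_ne_bot T.isPGroup' _ hA')
    refine ⟨a, ha.1, hfixnice a (hAV ha.1) (fun hc => ha1 (Subtype.ext (Subtype.ext hc))) ?_⟩
    intro t ht
    exact congrArg Subtype.val (mem_center_iff.1 ha.2 ⟨t, ht⟩)
  obtain ⟨z, hzV, hzn⟩ := hTnice V le_rfl hV fun t ht a ha => h.norm t (hTM ht) a ha
  intro v hv hv1
  by_contra hvn
  obtain ⟨Y, hY, hvY⟩ := h.exists_maxInt hv hvn
  have hYne : Y ≠ ⊥ := fun hc => hv1 (mem_bot.1 (hc ▸ hvY))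
  have hzY : ∀ {Y'}, MaxInt M V Y' → z ∉ Y' := fun hY' hc => h.not_nice hY' hc hzn
  -- the orbit of `Y`
  let Ω : Type u := {Y' : Subgroup G // ∃ m ∈ M, cj m Y = Y'}
  have hcomp : ∀ m n : G, cj m (cj n Y) = cj (m * n) Y := by
    intro m n
    ext x
    simp only [mem_cj, mul_inv_rev, mul_assoc]
  have hcj1 : ∀ A : Subgroup G, cj 1 A = A := fun A => by ext x; simp [mem_cj]
  letI : MulAction M Ω :=
    { smul := fun m w => ⟨cj (m : G) w.1, by
        obtain ⟨n, hn, he⟩ := w.2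
        exact ⟨m * n, mul_mem m.2 hn, by rw [← hcomp, he]⟩⟩
      one_smul := fun w => Subtype.ext (hcj1 w.1)
      mul_smul := fun m n w => Subtype.ext (by
        show cj ((m : G) * (n : G)) w.1 = cj (m : G) (cj (n : G) w.1)
        ext x
        simp only [mem_cj, mul_inv_rev, mul_assoc]) }
  have hsmul : ∀ (m : M) (w : Ω), (m • w).1 = cj (m : G) w.1 := fun _ _ => rfl
  have hmaxΩ : ∀ w : Ω, MaxInt M V w.1 := by
    rintro ⟨_, m, hm, rfl⟩
    exact hY.conj h hm
  have hneΩ : ∀ w : Ω, w.1 ≠ ⊥ := by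
    rintro ⟨_, m, hm, rfl⟩ hc
    exact hYne ((map_eq_bot_iff_of_injective _ (MulAut.conj m).injective).1 hc)
  let w₀ : Ω := ⟨Y, 1, one_mem _, hcj1 Y⟩
  have hnofix : ∀ w : Ω, ¬ ∀ t : (T : Subgroup G), (⟨t, hTM t.2⟩ : M) • w = w := by
    intro w hw
    obtain ⟨a, ha, han⟩ := hTnice w.1 (hmaxΩ w).le (hneΩ w) (fun t ht a ha => by
      have h1 := congrArg Subtype.val (hw ⟨t, ht⟩)
      rw [hsmul] at h1
      rw [← h1]
      exact ⟨a, ha, rfl⟩)
    exact h.not_nice (hmaxΩ w) ha han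
  have heven : 2 ∣ Nat.card Ω := by
    letI : MulAction (T : Subgroup G) Ω := MulAction.compHom Ω (inclusion hTM)
    have hmod := T.isPGroup'.card_modEq_card_fixedPoints Ω
    have h0 : Nat.card (MulAction.fixedPoints (T : Subgroup G) Ω) = 0 := by
      rw [Nat.card_eq_zero]
      exact Or.inl ⟨fun w => hnofix w.1 fun t => w.2 t⟩
    rw [h0] at hmod
    exact Nat.modEq_zero_iff_dvd.1 hmod
  have hne2 : Nat.card Ω ≠ 2 := by
    intro h2
    haveI := Fintype.ofFinite Ω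
    have hperm : ∀ σ τ : Equiv.Perm Ω, σ * τ = τ * σ := by
      have hcard : Nat.card (Equiv.Perm Ω) = 2 := by rw [Nat.card_perm, h2]; rfl
      haveI : IsCyclic (Equiv.Perm Ω) := isCyclic_of_prime_card hcard
      exact fun σ τ => (IsCyclic.commutative (α := Equiv.Perm Ω)).is_comm.comm σ τ
    refine hnofix w₀ fun t => ?_
    set ρ := MulAction.toPermHom M Ω
    have hle : ⁅M, M⁆ ≤ ρ.ker.map M.subtype := by
      rw [commutator_le]
      intro a ha b hb
      refine ⟨⁅(⟨a, ha⟩ : M), ⟨b, hb⟩⁆, ?_, rfl⟩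
      rw [SetLike.mem_coe, MonoidHom.mem_ker, map_commutatorElement,
        commutatorElement_eq_one_iff_mul_comm]
      exact hperm _ _
    obtain ⟨y, hy, hyt⟩ := hle (hfocal t.2)
    have hy' : y = ⟨t, hTM t.2⟩ := Subtype.ext hyt
    rw [← hy']
    exact congrArg (fun σ : Equiv.Perm Ω => σ w₀) hy
  have h4 : 4 ≤ Nat.card Ω := by
    have : 0 < Nat.card Ω := Nat.card_pos_iff.2 ⟨⟨w₀⟩, inferInstance⟩
    omega
  -- the members meet trivially
  have hinf : ∀ x : G, (∀ w : Ω, x ∈ w.1) → x = 1 := by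
    intro x hx
    set I : Subgroup G := ⨅ w : Ω, w.1
    have hIV : I ≤ V := (iInf_le _ w₀).trans hY.le
    have hIn : ∀ m ∈ M, ∀ u ∈ I, m * u * m⁻¹ ∈ I := by
      intro m hm u hu
      rw [mem_iInf] at hu ⊢
      intro w
      have h1 := hu ((⟨m, hm⟩ : M)⁻¹ • w)
      rw [hsmul, mem_cj] at h1
      simpa [mul_assoc] using h1
    rcases hirr I hIV hIn with h0 | h0
    · exact mem_bot.1 (h0 ▸ mem_iInf.2 hx : x ∈ (⊥ : Subgroup G))
    · exact absurd ((iInf_le _ w₀ : I ≤ Y) (show z ∈ I by rw [h0]; exact hzV)) (hzY hY)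
  by_cases hbig : ∃ a b : G, a ∈ V ∧ b ∈ V ∧ a ∉ Y ∧ b ∉ Y ∧ a * b ∉ Y
  swap
  · -- index two: a unique nice element
    push Not at hbig
    have huniq : ∀ z' ∈ V, Nice M z' → z' = z := by
      intro z' hz' hz'n
      refine ((inv_eq_of_mul_eq_one_right (hinf (z' * z) fun w => ?_)).symm.trans
        (h.inv_eq hz')).symm
      obtain ⟨m, hm, he⟩ := w.2
      rw [← he, mem_cj]
      have e : m⁻¹ * (z' * z) * m = (m⁻¹ * z' * m) * (m⁻¹ * z * m) := by group
      rw [e]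
      refine hbig _ _ (by simpa using h.norm m⁻¹ (inv_mem hm) z' hz')
        (by simpa using h.norm m⁻¹ (inv_mem hm) z hzV) (fun hc => ?_) (fun hc => ?_)
      · exact h.not_nice hY hc (by simpa using h.nice_conj (inv_mem hm) hz'n)
      · exact h.not_nice hY hc (by simpa using h.nice_conj (inv_mem hm) hzn)
    have hZ : zpowers z = ⊥ ∨ zpowers z = V := hirr _ (zpowers_le.2 hzV) (by
      intro m hm u hu
      obtain ⟨k, rfl⟩ := mem_zpowers_iff.1 hu
      rw [← conj_zpow, huniq _ (h.norm m hm z hzV) (h.nice_conj hm hzn)]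
      exact zpow_mem (mem_zpowers z) k)
    rcases hZ with hZ | hZ
    · exact hzY hY ((mem_bot.1 (hZ ▸ mem_zpowers z)).symm ▸ one_mem _)
    · obtain ⟨k, hk⟩ := mem_zpowers_iff.1 (hZ.symm ▸ hv : v ∈ zpowers z)
      rcases Int.even_or_odd k with ⟨l, hl⟩ | ⟨l, hl⟩
      · refine hv1 ?_
        rw [← hk, hl, ← two_mul, zpow_mul, zpow_two, h.sq z hzV, one_zpow]
      · refine hvn ?_
        rw [← hk, hl, zpow_add, zpow_mul, zpow_two, h.sq z hzV, one_zpow, one_mul, zpow_one]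
        exact hzn
  obtain ⟨a, b, ha, hb, haY, hbY, habY⟩ := hbig
  obtain ⟨E, hE⟩ := exists_torus hcrit h hY ⟨z, hzV, hzn⟩ ha hb haY hbY habY
  obtain ⟨p, hp, hp2, k, hk, hkY, hkE, hkC, hkp⟩ := hE.elem
  haveI : Fact p.Prime := ⟨hp⟩
  have hmemY : Member M V p Y E k :=
    ⟨hY, hE.le, hE.inf_eq, hE.sup_eq, hE.two, hE.trans, hk, hkY, hkE, hkC, hkp⟩
  have hmemΩ : ∀ w : Ω, ∃ E' k', Member M V p w.1 E' k' := by
    rintro ⟨_, m, hm, rfl⟩
    exact ⟨_, _, hmemY.conj h hm⟩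
  choose Ew kw hw using hmemΩ
  letI : CommGroup V :=
    { (inferInstance : Group V) with mul_comm := fun x y => Subtype.ext (h.comm x.2 y.2) }
  set S : Set V := {s | Nice M (s : G)}
  have hspan : closure S = ⊤ := by
    have hU : (closure S).map V.subtype = ⊥ ∨ (closure S).map V.subtype = V := by
      refine hirr _ (map_subtype_le _) ?_
      rintro m hm _ ⟨u, hu, rfl⟩
      replace hu : u ∈ closure S := hu
      show m * (u : G) * m⁻¹ ∈ (closure S).map V.subtype
      refine closure_induction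
        (p := fun (u : V) _ => m * (u : G) * m⁻¹ ∈ (closure S).map V.subtype) ?_ ?_ ?_ ?_ hu
      · intro u hu
        exact ⟨⟨_, h.norm m hm _ u.2⟩, subset_closure (h.nice_conj hm hu), rfl⟩
      · simp
      · intro u w _ _ h1 h2
        have := mul_mem h1 h2
        simpa [mul_assoc] using this
      · intro u _ h1
        have := inv_mem h1
        simpa [mul_assoc] using this
    rcases hU with hU | hU
    · exfalso
      have h1 : (z : G) ∈ (closure S).map V.subtype :=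
        ⟨⟨z, hzV⟩, subset_closure hzn, rfl⟩
      rw [hU, mem_bot] at h1
      exact hzY hY (h1 ▸ one_mem _)
    · rw [eq_top_iff]
      intro x _
      obtain ⟨y, hy, hyx⟩ : (x : G) ∈ (closure S).map V.subtype := hU.symm ▸ x.2
      rwa [← Subtype.ext hyx]
  have hsplit : ∀ w : Ω, Linear.Split S (w.1.subgroupOf V) ((Ew w).subgroupOf V) := by
    intro w
    refine ⟨fun y hy => h.not_nice (hmaxΩ w) hy, ?_, ?_, ?_, ?_⟩
    · rw [eq_bot_iff]
      rintro x ⟨hx1, hx2⟩
      exact Subtype.ext (mem_bot.1 ((hw w).inf_eq ▸ ⟨hx1, hx2⟩))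
    · rw [eq_top_iff]
      intro x _
      obtain ⟨y, hy, e, he, hye⟩ := (hw w).sup_eq x x.2
      rw [show x = ⟨y, (hmaxΩ w).le hy⟩ * ⟨e, (hw w).le he⟩ from Subtype.ext hye.symm]
      exact mul_mem (mem_sup_left hy) (mem_sup_right he)
    · intro y hy e he e' he' h1 h1' hS
      obtain ⟨m, hm, hmY, hme⟩ := (hw w).trans e he e' he'
        (fun hc => h1 (Subtype.ext hc)) (fun hc => h1' (Subtype.ext hc))
      show Nice M ((y : G) * e')
      have h3 := h.nice_conj hm (v := (y : G) * e) hS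
      have h5 : m * ((y : G) * e) * m⁻¹ = (m * y * m⁻¹) * (m * e * m⁻¹) := by group
      rwa [h5, hmY y hy, hme] at h3
    · intro x
      obtain ⟨e, he, he1, hex⟩ := (hw w).two x
      exact ⟨⟨e, (hw w).le he⟩, he, fun hc => he1 (congrArg Subtype.val hc),
        fun hc => hex (congrArg Subtype.val hc)⟩
  have hcard : ∀ w : Ω, Nat.card w.1 = Nat.card Y := by
    rintro ⟨_, m, hm, rfl⟩
    exact card_map_of_injective (MulAut.conj m).injective
  haveI := Fintype.ofFinite Ω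
  obtain ⟨g⟩ : Nonempty (Fin 4 ↪ Ω) := Function.Embedding.nonempty_of_card_le
    (by rw [Fintype.card_fin, ← Nat.card_eq_fintype_card]; exact h4)
  refine four_members h hp2 (hrank p hp hp2) (fun i => (g i).1) (fun i => Ew (g i))
    (fun i => kw (g i)) (fun i => hw _) fun i j hij => ?_
  have hne : ¬ (g j).1.subgroupOf V ≤ (g i).1.subgroupOf V := by
    intro hle
    refine hij (g.injective (Subtype.ext (eq_of_le_of_card_ge (fun x hx => ?_) ?_).symm))
    · exact hle (x := ⟨x, (hmaxΩ _).le hx⟩) hx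
    · rw [hcard, hcard]
  have hsub := Linear.complement_le (fun v => Subtype.ext (h.sq _ v.2)) hspan
    (hsplit (g i)) (hsplit (g j)) hne
  intro x hx
  exact hsub (x := ⟨x, (hw _).le hx⟩) hx

end Cfsg.Agent.Lib.QTUnique
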