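import Cfsg.Prelude.Def_QuasithinSetup
import Cfsg.Prelude.Def_TwoFusion
import Cfsg.Agent.Lib.QTUnique.Main
import Cfsg.Agent.Lib.QTUnique.AGFamily
import Mathlib.GroupTheory.Focal

/-!
# Simple groups whose Alperin-Goldschmidt family normalizers lie in a unique maximal `2`-local

`stronglyClosed` is the first half, `bender` the second one from the single fixed point criterion.
-/

set_option autoImplicit false

namespace Cfsg.Agent.Lib.QTUnique.Final

open Subgroup
open scoped commutatorElement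

universe u

variable {G : Type u} [Group G] [Finite G] {M : Subgroup G} (T : Sylow 2 G)

omit [Finite G] in
theorem le_sylow_of_normalized (hTM : (T : Subgroup G) ≤ M) {U : Subgroup G}
    (hMU : M ≤ normalizer (U : Set G)) (hU : IsPGroup 2 U) : U ≤ T := by
  have h : IsPGroup 2 ((T : Subgroup G) ⊔ U : Subgroup G) :=
    T.isPGroup'.to_sup_of_normal_right' hU (hTM.trans hMU)
  exact le_sup_right.trans (T.3 h le_sup_left).le

/-- Normal `2`-subgroups of `M` are strongly closed. -/
theorem stronglyClosed (hTM : (T : Subgroup G) ≤ M)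
    (h : ∀ D ∈ Cfsg.agConjFamily (T : Subgroup G), normalizer (D : Set G) ≤ M)
    (U : Subgroup G) (hMU : M ≤ normalizer (U : Set G)) (hU : IsPGroup 2 U) :
    Cfsg.IsStronglyClosed U (T : Subgroup G) := by
  have hUT := le_sylow_of_normalized T hTM hMU hU
  refine ⟨hUT, fun x hx g hg => ?_⟩
  obtain ⟨m, hm, he⟩ := AGFamily.control_element T h (hUT hx) hg
  rw [← he]
  exact (mem_normalizer_iff.1 (hMU hm) x).1 hx

theorem exists_maximal_twoLocal {N : Subgroup G} (hN : Cfsg.IsTwoLocal N) :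
    ∃ M, Cfsg.IsMaximalTwoLocal M ∧ N ≤ M := by
  obtain ⟨M, hNM, hM⟩ := Finite.exists_le_maximal (p := fun K : Subgroup G => Cfsg.IsTwoLocal K) hN
  exact ⟨M, ⟨hM.prop, fun K hK hle => le_antisymm (hM.le_of_ge hK hle) hle⟩, hNM⟩

/-- The centralizer of a `T`-fixed involution. -/
theorem centralizer_le (hM : Cfsg.maxTwoLocalsContaining (T : Subgroup G) = {M}) {v : G}
    (hv : v * v = 1) (hv1 : v ≠ 1) (hT : ∀ t ∈ (T : Subgroup G), Commute t v) :
    centralizer ({v} : Set G) ≤ M := by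
  have hvo : orderOf v = 2 := orderOf_eq_prime (by rw [pow_two]; exact hv) hv1
  have h2 : Cfsg.IsTwoLocal (normalizer (zpowers v : Set G)) := by
    refine ⟨zpowers v, IsPGroup.of_card (n := 1) (by rw [Nat.card_zpowers, hvo, pow_one]),
      fun hc => hv1 (mem_bot.1 (hc ▸ mem_zpowers v)), rfl⟩
  obtain ⟨M', hM', hle⟩ := exists_maximal_twoLocal h2
  have hC : centralizer ({v} : Set G) ≤ normalizer (zpowers v : Set G) := by
    refine le_trans ?_ (centralizer_le_normalizer _)
    intro c hc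
    refine mem_centralizer_iff.2 fun x hx => ?_
    obtain ⟨k, rfl⟩ := mem_zpowers_iff.1 hx
    exact (Commute.zpow_left ((mem_centralizer_singleton_iff.1 hc).symm) k : _)
  have hmem : M' ∈ Cfsg.maxTwoLocalsContaining (T : Subgroup G) :=
    ⟨hM', fun t ht => hle (hC (mem_centralizer_singleton_iff.2 (hT t ht)))⟩
  rw [hM, Set.mem_singleton_iff] at hmem
  exact hmem ▸ hC.trans hle

/-- The Sylow subgroup lies in the derived group of `M`. -/
theorem sylow_le_commutator [IsSimpleGroup G] (hG : ¬ IsMulCommutative G)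
    (hTM : (T : Subgroup G) ≤ M)
    (h : ∀ D ∈ Cfsg.agConjFamily (T : Subgroup G), normalizer (D : Set G) ≤ M) :
    (T : Subgroup G) ≤ ⁅M, M⁆ := by
  haveI : Fact (Nat.Prime 2) := ⟨Nat.prime_two⟩
  have htop : _root_.commutator G = ⊤ := by
    refine (Subgroup.Normal.eq_bot_or_eq_top inferInstance).resolve_left fun hc => hG ⟨⟨fun a b => ?_⟩⟩
    have h1 : ⁅a, b⁆ ∈ _root_.commutator G := commutator_mem_commutator (mem_top a) (mem_top b)
    rw [hc, mem_bot] at h1
    exact commutatorElement_eq_one_iff_mul_comm.1 h1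
  have hfoc := Subgroup.commutator_inf_eq_focalSubgroup T
  rw [htop, top_inf_eq] at hfoc
  rw [hfoc, focalSubgroup_def, closure_le]
  rintro _ ⟨hgT, x, hx, u, rfl⟩
  have hux : u * x⁻¹ * u⁻¹ ∈ (T : Subgroup G) := by
    have := mul_mem (inv_mem hx) hgT
    rwa [commutatorElement_def, mul_assoc x u, mul_assoc x, inv_mul_cancel_left] at this
  obtain ⟨m, hm, he⟩ := AGFamily.control_element T h (inv_mem hx) hux
  have e : ⁅x, u⁆ = ⁅x, m⁆ := by
    rw [commutatorElement_def, commutatorElement_def, mul_assoc x u, mul_assoc x,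
      mul_assoc x m, mul_assoc x (m * x⁻¹), he]
  rw [SetLike.mem_coe, e]
  exact commutator_mem_commutator (hTM hx) hm

/-- The second half from the single fixed point criterion. -/
theorem bender (hcrit : Crit59.CritProp.{u}) [IsSimpleGroup G] (hG : ¬ IsMulCommutative G)
    (hQ : Cfsg.OddTwoLocalRankLE 2 G)
    (hM : Cfsg.maxTwoLocalsContaining (T : Subgroup G) = {M})
    (h : ∀ D ∈ Cfsg.agConjFamily (T : Subgroup G), normalizer (D : Set G) ≤ M) :
    Cfsg.IsBenderGroup G := by
  classical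
  haveI : Fact (Nat.Prime 2) := ⟨Nat.prime_two⟩
  have hmem : M ∈ Cfsg.maxTwoLocalsContaining (T : Subgroup G) := by
    rw [hM]; exact Set.mem_singleton M
  obtain ⟨⟨hML, -⟩, hTM⟩ := hmem
  obtain ⟨U, hU, hUne, hMU⟩ := id hML
  have hproper : M ≠ ⊤ := by
    intro hc
    rw [hMU] at hc
    rcases Subgroup.Normal.eq_bot_or_eq_top (normalizer_eq_top_iff.1 hc) with h1 | h1
    · exact hUne h1
    · rw [h1] at hU
      have hGp : IsPGroup 2 G := hU.of_equiv Subgroup.topEquiv
      haveI : Nontrivial G := IsSimpleGroup.toNontrivial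
      haveI := hGp.center_nontrivial
      rcases Subgroup.Normal.eq_bot_or_eq_top (inferInstance : (center G).Normal) with h2 | h2
      · exact (Subgroup.nontrivial_iff_ne_bot _).1 this h2
      · exact hG ⟨⟨fun a b => mem_center_iff.1 (h2 ▸ mem_top b) a⟩⟩
  have hUT : U ≤ T := le_sylow_of_normalized T hTM hMU.le hU
  -- elementary abelian subgroups of `U` normalized by `M`
  let P : Subgroup G → Prop := fun A => A ≠ ⊥ ∧ A ≤ U ∧ (∀ a ∈ A, a * a = 1) ∧
    ∀ m ∈ M, ∀ a ∈ A, m * a * m⁻¹ ∈ A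
  have hconjU : ∀ m ∈ M, ∀ a, a ∈ U ↔ m * a * m⁻¹ ∈ U := fun m hm a =>
    mem_normalizer_iff.1 (hMU.le hm) a
  let Z₁ : Subgroup G :=
    { carrier := {x | x ∈ U ∧ x * x = 1 ∧ ∀ u ∈ U, u * x = x * u}
      one_mem' := ⟨one_mem _, mul_one 1, fun u _ => by simp⟩
      mul_mem' := fun {a b} ha hb => ⟨mul_mem ha.1 hb.1, by
          calc a * b * (a * b) = a * (b * a) * b := by group
            _ = a * (a * b) * b := by rw [ha.2.2 b hb.1]
            _ = a * a * (b * b) := by group
            _ = 1 := by rw [ha.2.1, hb.2.1, one_mul],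
        fun u hu => by rw [← mul_assoc, ha.2.2 u hu, mul_assoc, hb.2.2 u hu, mul_assoc]⟩
      inv_mem' := fun {a} ha => by
        rw [inv_eq_of_mul_eq_one_right ha.2.1]
        exact ha }
  have hPZ : P Z₁ := by
    refine ⟨fun hc => ?_, fun x hx => hx.1, fun x hx => hx.2.1, fun m hm a ha => ?_⟩
    · haveI : Nontrivial U := (Subgroup.nontrivial_iff_ne_bot U).2 hUne
      haveI := hU.center_nontrivial
      obtain ⟨i, hi⟩ := IsPGroup.iff_card.1 (hU.to_subgroup (center U))
      have hi0 : i ≠ 0 := by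
        rintro rfl
        rw [pow_zero, Nat.card_eq_one_iff_unique] at hi
        exact not_subsingleton _ hi.1
      obtain ⟨x, hx⟩ := exists_prime_orderOf_dvd_card' (G := center U) 2
        (hi ▸ dvd_pow_self 2 hi0)
      have hxx : ((x : U) : G) ∈ Z₁ := by
        refine ⟨(x : U).2, ?_, fun u hu => congrArg Subtype.val (mem_center_iff.1 x.2 ⟨u, hu⟩)⟩
        have := pow_orderOf_eq_one x
        rw [hx, pow_two] at this
        exact congrArg (fun y : center U => ((y : U) : G)) this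
      rw [hc, mem_bot] at hxx
      have hx1 : x = 1 := Subtype.ext (Subtype.ext hxx)
      rw [hx1, orderOf_one] at hx
      norm_num at hx
    · refine ⟨(hconjU m hm a).1 ha.1, ?_, fun u hu => ?_⟩
      · calc m * a * m⁻¹ * (m * a * m⁻¹) = m * (a * a) * m⁻¹ := by group
          _ = 1 := by rw [ha.2.1]; group
      · have h1 : m⁻¹ * u * m ∈ U := by
          have := (hconjU m⁻¹ (inv_mem hm) u).1 hu
          rwa [inv_inv] at this
        calc u * (m * a * m⁻¹) = m * (m⁻¹ * u * m * a) * m⁻¹ := by group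
          _ = m * (a * (m⁻¹ * u * m)) * m⁻¹ := by rw [ha.2.2 _ h1]
          _ = m * a * m⁻¹ * u := by group
  obtain ⟨V, -, hVmin⟩ := Finite.exists_le_minimal (p := P) hPZ
  obtain ⟨hVne, hVU, hVsq, hVn⟩ := hVmin.prop
  have hVT : V ≤ T := hVU.trans hUT
  have hH : Hyp M V := by
    refine ⟨hproper, hVT.trans hTM, hVn, hVsq, fun v hv g hg => ?_⟩
    have hord : (g * v * g⁻¹) ^ (2 ^ 1) = 1 := by
      rw [pow_one, pow_two]
      calc g * v * g⁻¹ * (g * v * g⁻¹) = g * (v * v) * g⁻¹ := by group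
        _ = 1 := by rw [hVsq v hv]; group
    have hp : IsPGroup 2 (zpowers (g * v * g⁻¹)) := by
      obtain ⟨i, -, hi⟩ := (Nat.dvd_prime_pow Nat.prime_two).1
        (orderOf_dvd_iff_pow_eq_one.2 hord)
      exact IsPGroup.of_card (n := i) (by rw [Nat.card_zpowers, hi])
    obtain ⟨m₁, hm₁, hle⟩ := Fusion.Alperin.exists_conj_le_of_maximal T.isPGroup' hTM
      (fun S hS _ hTS => T.3 hS hTS) hp (zpowers_le.2 hg)
    have hmem : m₁ * g * v * (m₁ * g)⁻¹ ∈ (T : Subgroup G) := by
      have := hle (Fusion.Alperin.conj_mem_conjS (g := m₁) (mem_zpowers (g * v * g⁻¹)))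
      convert this using 1
      group
    obtain ⟨m, hm, he⟩ := AGFamily.control_element T h (hVT hv) hmem
    refine ⟨m₁⁻¹ * m, mul_mem (inv_mem hm₁) hm, ?_⟩
    calc m₁⁻¹ * m * v * (m₁⁻¹ * m)⁻¹ = m₁⁻¹ * (m * v * m⁻¹) * m₁ := by group
      _ = g * v * g⁻¹ := by rw [he]; group
  have hirr : ∀ A : Subgroup G, A ≤ V → (∀ m ∈ M, ∀ u ∈ A, m * u * m⁻¹ ∈ A) → A = ⊥ ∨ A = V := by
    intro A hAV hAn
    by_cases hA : A = ⊥
    · exact Or.inl hA
    · exact Or.inr (le_antisymm hAV (hVmin.le_of_le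
        ⟨hA, hAV.trans hVU, fun a ha => hVsq a (hAV ha), hAn⟩ hAV))
  have hnice := all_nice hcrit hH T hTM hVT hirr
    (fun v hv hv1 ht => centralizer_le T hM (hVsq v hv) hv1 ht)
    (sylow_le_commutator T hG hTM h) (fun p hp hp2 => hQ p hp hp2 M hML) hVne
  set D : Set G := {d | ∃ v ∈ V, v ≠ 1 ∧ ∃ g, g * v * g⁻¹ = d}
  have hDM : ∀ d ∈ D, d ∈ M → d ∈ V ∧ d ≠ 1 := by
    rintro _ ⟨v, hv, hv1, g, rfl⟩ hd
    exact ⟨hH.mem_of_conj hv hd, fun hc => hv1 (conj_eq_one_iff.1 hc)⟩
  have hVD : ∀ v ∈ V, v ≠ 1 → v ∈ D := fun v hv hv1 => ⟨v, hv, hv1, 1, by simp⟩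
  have hset : Crit59.Setting M D := by
    refine ⟨hproper, ?_, ?_, ?_, ?_, ?_⟩
    · rintro _ ⟨v, hv, hv1, g, rfl⟩
      rw [Involutions.Basic.orderOf_conj_eq]
      exact hH.order_two hv hv1
    · rintro _ ⟨v, hv, hv1, g, rfl⟩ g'
      exact ⟨v, hv, hv1, g' * g, by group⟩
    · rintro _ ⟨v, hv, hv1, g, rfl⟩
      exact ⟨g⁻¹, by simpa [mul_assoc] using hH.le hv⟩
    · intro d hd hdM g hg
      obtain ⟨hdV, hd1⟩ := hDM d hd hdM
      exact hH.nice_fix hdV (hnice d hdV hd1) hg
    · have e : Nat.card {d : G // d ∈ D ∧ d ∈ M} = Nat.card {w : V // w ≠ 1} := by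
        refine Nat.card_congr
          { toFun := fun d => ⟨⟨d.1, (hDM d.1 d.2.1 d.2.2).1⟩,
              fun hc => (hDM d.1 d.2.1 d.2.2).2 (congrArg Subtype.val hc)⟩
            invFun := fun w => ⟨w.1.1,
              hVD _ w.1.2 (fun hc => w.2 (Subtype.ext hc)), hH.le w.1.2⟩
            left_inv := fun d => rfl
            right_inv := fun w => rfl }
      rw [e]
      haveI := Fintype.ofFinite V
      rw [Nat.card_eq_fintype_card, Fintype.card_subtype_compl, Fintype.card_subtype_eq]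
      obtain ⟨a, ha, ha1⟩ : ∃ a ∈ V, a ≠ 1 := by
        by_contra hc
        push Not at hc
        exact hVne (eq_bot_iff.2 fun a ha => mem_bot.2 (hc a ha))
      have h2 : 2 ∣ Fintype.card V := by
        have := Subgroup.orderOf_dvd_natCard V ha
        rwa [hH.order_two ha ha1, Nat.card_eq_fintype_card] at this
      have : 0 < Fintype.card V := Fintype.card_pos
      exact Nat.odd_iff.2 (by omega)
  have hclosed : Crit59.ProdClosed M D := by
    intro d e hd hdM he heM _ hne
    obtain ⟨hdV, -⟩ := hDM d hd hdM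
    obtain ⟨heV, -⟩ := hDM e he heM
    refine hVD _ (mul_mem hdV heV) fun hc => hne ?_
    rw [eq_inv_of_mul_eq_one_left hc, hH.inv_eq heV]
  have hSE := hcrit G M D hset (Or.inr hclosed)
  have hcl : closure D = ⊤ := by
    have hn : (closure D).Normal := by
      refine ⟨fun x hx g => ?_⟩
      induction hx using closure_induction with
      | mem x hx =>
        obtain ⟨v, hv, hv1, a, rfl⟩ := hx
        exact subset_closure ⟨v, hv, hv1, g * a, by group⟩
      | one => simp
      | mul x y _ _ hx hy => simpa [mul_assoc] using mul_mem hx hy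
      | inv x _ hx => simpa [mul_assoc] using inv_mem hx
    refine (Subgroup.Normal.eq_bot_or_eq_top hn).resolve_left fun hc => ?_
    obtain ⟨a, ha, ha1⟩ : ∃ a ∈ V, a ≠ 1 := by
      by_contra hc'
      push Not at hc'
      exact hVne (eq_bot_iff.2 fun a ha => mem_bot.2 (hc' a ha))
    exact ha1 (mem_bot.1 (hc ▸ subset_closure (hVD a ha ha1)))
  rw [hcl] at hSE
  haveI : Nontrivial G := IsSimpleGroup.toNontrivial
  haveI : Nontrivial (⊤ : Subgroup G) :=
    (Subgroup.topEquiv (G := G)).toEquiv.nontrivial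
  haveI : IsSimpleGroup (⊤ : Subgroup G) :=
    IsSimpleGroup.isSimpleGroup_of_surjective (Subgroup.topEquiv (G := G)).symm.toMonoidHom
      (Subgroup.topEquiv (G := G)).symm.surjective
  have hna : ∃ a b : (⊤ : Subgroup G), a * b ≠ b * a := by
    obtain ⟨a, b, hab⟩ := BenderConsumers23.na_of_not_comm hG
    exact ⟨⟨a, mem_top a⟩, ⟨b, mem_top b⟩, fun hc => hab (congrArg Subtype.val hc)⟩
  obtain ⟨hT, -⟩ := BenderConsumers23.simple_case BenderOne.propPartOneFinal
    BenderSuzuki.propMain hna hSE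
  rcases hT.congr (Subgroup.topEquiv (G := G)).symm with
    ⟨F, i, j, n, hn, hF, he⟩ | hs | ⟨F, i, j, n, hn, hF, he⟩
  · refine Or.inl ⟨F, i, j, ?_, ?_, he⟩
    · exact charP_of_card_eq_prime_pow hF
    · rw [hF]
      calc 4 = 2 ^ 2 := rfl
        _ ≤ 2 ^ n := Nat.pow_le_pow_right (by norm_num) hn
  · exact Or.inr (Or.inr hs)
  · exact Or.inr (Or.inl ⟨F, i, j, n, hn, hF, he⟩)

end Cfsg.Agent.Lib.QTUnique.Final
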