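import Cfsg.Agent.Lib.BenderConsumers23.Simple
import Cfsg.Agent.Lib.PGroups.Omega

/-!
# The action of a strongly embedded subgroup on a normal elementary abelian subgroup

`two_centralizes`: if `K` is strongly embedded in `L` and normalizes the elementary abelian group
`W ≤ K` of order at least `4`, then the `2`-elements of `K` centralize `W`, and `K` is transitive on
the involutions of `W`.
-/

set_option autoImplicit false

namespace Cfsg.Agent.Lib.QTUnique.Torus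

open MulAction Cfsg.Agent.Lib.Involutions.StronglyEmbedded Cfsg.Agent.Lib.Involutions.Basic
open Cfsg.Agent.Lib.BenderSuzuki Cfsg.Agent.Lib.RankOne.Basic Cfsg.Agent.Lib.BenderConsumers23

universe u

variable {L : Type u} [Group L] [Finite L] {K W : Subgroup L}

/-- Transitivity on the involutions. -/
theorem exists_conj (hK : Cfsg.IsStronglyEmbedded K) {a b : L} (ha : orderOf a = 2)
    (hb : orderOf b = 2) (haK : a ∈ K) (hbK : b ∈ K) : ∃ k ∈ K, k * a * k⁻¹ = b := by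
  obtain ⟨g, hg⟩ := isConj_iff.1 (isConj_involutions hK ha hb)
  exact ⟨g, mem_of_conj_mem hK ha haK (hg ▸ hbK), hg⟩

theorem pow_Q_mul {G Ω : Type*} [Group G] [MulAction G Ω] {a : Ω} {t : G} {Q : Subgroup G}
    (hS : Cfsg.IsRankOneSetup G Ω a t Q) {q d : G} (hq : q ∈ Q) (hd : d ∈ twoStab G a t) :
    ∀ n : ℕ, ∃ r ∈ Q, (q * d) ^ n = r * d ^ n := by
  intro n
  induction n with
  | zero => exact ⟨1, one_mem _, by simp⟩
  | succ n ih =>
    obtain ⟨r, hr, he⟩ := ih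
    refine ⟨r * (d ^ n * q * (d ^ n)⁻¹), mul_mem hr (twoStab_norm hS (pow_mem hd n) hq), ?_⟩
    rw [pow_succ, he, pow_succ]
    group

/-- The `2`-elements of `K` centralize `W`. -/
theorem two_centralizes (hP : PropPartOne.{u}) (hMain : PropMain.{u, u})
    (hK : Cfsg.IsStronglyEmbedded K) (hWK : W ≤ K) (hWn : ∀ k ∈ K, ∀ w ∈ W, k * w * k⁻¹ ∈ W)
    (hW2 : ∀ w ∈ W, w * w = 1) {a b : L} (haW : a ∈ W) (hbW : b ∈ W) (ha : a ≠ 1) (hb : b ≠ 1)
    (hab : a ≠ b) :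
    ∀ x ∈ K, (∃ i : ℕ, x ^ (2 ^ i) = 1) → ∀ w ∈ W, x * w * x⁻¹ = w := by
  classical
  haveI : Fact (Nat.Prime 2) := ⟨Nat.prime_two⟩
  have hinv : ∀ w ∈ W, w⁻¹ = w := fun w hw => inv_eq_of_mul_eq_one_right (hW2 w hw)
  have hcomm : ∀ v ∈ W, ∀ w ∈ W, v * w = w * v := fun v hv w hw => by
    rw [← hinv _ (mul_mem hv hw), mul_inv_rev, hinv v hv, hinv w hw]
  have h2 : TwoRank L :=
    ⟨a, b, ha, hb, hab, hW2 a haW, hW2 b hbW, hcomm a haW b hbW⟩
  obtain ⟨hK', h2', hc'⟩ := quotient_oddCore hK h2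
  set π := QuotientGroup.mk' (Cfsg.oddCore L)
  obtain ⟨t, Q, hh, hg⟩ := good hP hMain hK' h2' hc'
  have hS := hh.setup
  have hst : stabilizer (L ⧸ Cfsg.oddCore L)
      ((1 : L ⧸ Cfsg.oddCore L) : (L ⧸ Cfsg.oddCore L) ⧸ K.map π) = K.map π :=
    MulAction.stabilizer_quotient _
  have hmemQ : ∀ k ∈ K, (∃ i : ℕ, k ^ (2 ^ i) = 1) → π k ∈ Q := by
    rintro k hk ⟨i, hi⟩
    have hfix : π k • ((1 : L ⧸ Cfsg.oddCore L) : (L ⧸ Cfsg.oddCore L) ⧸ K.map π) = _ :=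
      MulAction.mem_stabilizer_iff.1 (by rw [hst]; exact Subgroup.mem_map_of_mem π hk)
    obtain ⟨q, hq, d, hd, hkd⟩ := exists_Q_D hS hfix
    obtain ⟨r, hr, he⟩ := pow_Q_mul hS hq hd (2 ^ i)
    have h1 : r * d ^ (2 ^ i) = 1 * 1 := by
      rw [one_mul, ← he, ← hkd, ← map_pow, hi, map_one]
    have hd1 := (Q_D_unique hS hr Q.one_mem (pow_mem hd _) (one_mem _) h1).2
    have hd' : d = 1 := by
      rw [← orderOf_eq_one_iff]
      refine Nat.eq_one_of_dvd_one ?_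
      have hco : Nat.Coprime (Nat.card ↥(twoStab _
          ((1 : L ⧸ Cfsg.oddCore L) : (L ⧸ Cfsg.oddCore L) ⧸ K.map π) t)) (2 ^ i) :=
        (Nat.coprime_two_right.2 hS.odd_card).pow_right i
      rw [← hco.gcd_eq_one]
      exact Nat.dvd_gcd (Subgroup.orderOf_dvd_natCard _ hd) (orderOf_dvd_of_pow_eq_one hd1)
    rw [hkd, hd', mul_one]
    exact hq
  have hodd : Odd (Nat.card (Cfsg.oddCore L)) := ZStar.Elements.oddCore_odd
  have hinj : ∀ w ∈ W, π w = 1 → w = 1 := fun w hw h => by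
    by_contra h0
    exact (odd_card_iff_no_invol _).1 hodd w ((QuotientGroup.eq_one_iff w).1 h)
      (sq_eq_one_iff'.1 ⟨hW2 w hw, h0⟩)
  -- the image of `W` meets the centre of `Q`
  set W' : Subgroup Q := (W.map π).subgroupOf Q
  have hWQ : W.map π ≤ Q := by
    rintro _ ⟨w, hw, rfl⟩
    exact hmemQ w (hWK hw) ⟨1, by rw [pow_one, pow_two]; exact hW2 w hw⟩
  haveI : W'.Normal := by
    refine ⟨fun y hy q => ?_⟩
    have hqK : (q : L ⧸ Cfsg.oddCore L) ∈ K.map π := by rw [← hst]; exact hS.le q.2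
    obtain ⟨k, hk, hkq⟩ := hqK
    obtain ⟨w, hw, hwy⟩ := hy
    refine ⟨k * w * k⁻¹, hWn k hk w hw, ?_⟩
    rw [map_mul, map_mul, map_inv, hkq]
    simp only [Subgroup.subtype_apply] at hwy
    rw [hwy]
    rfl
  have hW'ne : W' ≠ ⊥ := fun h => ha (hinj a haW (by
    have : (⟨π a, hWQ ⟨a, haW, rfl⟩⟩ : Q) ∈ W' := ⟨a, haW, rfl⟩
    rw [h, Subgroup.mem_bot] at this
    exact congrArg Subtype.val this))
  obtain ⟨y, hy, hy1⟩ :=
    (Subgroup.ne_bot_iff_exists_ne_one.1 (PGroups.normal_inf_center_ne_bot hg.1 W' hW'ne))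
      |> fun ⟨y, hy1⟩ => (⟨y.1, y.2, fun h => hy1 (Subtype.ext h)⟩ :
        ∃ y : Q, y ∈ W' ⊓ Subgroup.center Q ∧ y ≠ 1)
  obtain ⟨w₀, hw₀, hw₀y⟩ := hy.1
  have hw₀1 : w₀ ≠ 1 := fun h => hy1 (Subtype.ext (by
    rw [h, map_one] at hw₀y; exact hw₀y.symm))
  -- `w₀` is centralized by every `2`-element
  have hfix₀ : ∀ x ∈ K, (∃ i : ℕ, x ^ (2 ^ i) = 1) → x * w₀ * x⁻¹ = w₀ := by
    intro x hx hx2
    have hq := Subgroup.mem_center_iff.1 hy.2 ⟨π x, hmemQ x hx hx2⟩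
    have h1 : π x * π w₀ = π w₀ * π x := by
      have := congrArg Subtype.val hq
      simp only [Subgroup.coe_mul] at this
      simp only [Subgroup.subtype_apply] at hw₀y
      rw [hw₀y]; exact this
    have h3 : π (x * w₀ * x⁻¹ * w₀⁻¹) = 1 := by
      rw [map_mul, map_mul, map_mul, map_inv, map_inv, h1]; group
    exact mul_inv_eq_one.1 (hinj _ (mul_mem (hWn x hx w₀ hw₀) (inv_mem hw₀)) h3)
  intro x hx hx2 w hw
  by_cases hw1 : w = 1
  · simp [hw1]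
  obtain ⟨k, hk, hkw⟩ := exists_conj hK (sq_eq_one_iff'.1 ⟨hW2 w₀ hw₀, hw₀1⟩)
    (sq_eq_one_iff'.1 ⟨hW2 w hw, hw1⟩) (hWK hw₀) (hWK hw)
  obtain ⟨i, hi⟩ := hx2
  have := hfix₀ (k⁻¹ * x * k) (mul_mem (mul_mem (inv_mem hk) hx) hk) ⟨i, by
    rw [show k⁻¹ * x * k = k⁻¹ * x * k⁻¹⁻¹ by rw [inv_inv], conj_pow, hi]; group⟩
  rw [← hkw]
  calc x * (k * w₀ * k⁻¹) * x⁻¹ = k * (k⁻¹ * x * k * w₀ * (k⁻¹ * x * k)⁻¹) * k⁻¹ := by group
    _ = k * w₀ * k⁻¹ := by rw [this]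

end Cfsg.Agent.Lib.QTUnique.Torus
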