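import Cfsg.Agent.Lib.QTUnique.Base
import Cfsg.Agent.Lib.QTUnique.Torus
import Cfsg.Agent.Lib.BenderOne.Final
import Cfsg.Agent.Lib.BenderSuzuki.Main
import Mathlib.GroupTheory.SchurZassenhaus

/-!
# The torus at a maximal intersection

For a maximal intersection `Y` of index at least `4` in `V`, the single fixed point criterion in
`C(Y)/Y` and Bender's theorem give a group of odd order centralizing `Y`, so a complement `E` of
`Y` in `V` on whose involutions `C_M(Y)` is transitive.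
-/

set_option autoImplicit false

namespace Cfsg.Agent.Lib.QTUnique

open Subgroup

universe u

variable {G : Type u} [Group G]

/-- A complement to `Y` with its torus. -/
structure Torus (M V Y E : Subgroup G) : Prop where
  le : E ≤ V
  inf_eq : Y ⊓ E = ⊥
  sup_eq : ∀ v ∈ V, ∃ y ∈ Y, ∃ e ∈ E, y * e = v
  two : ∀ a : G, ∃ e ∈ E, e ≠ 1 ∧ e ≠ a
  trans : ∀ e ∈ E, ∀ e' ∈ E, e ≠ 1 → e' ≠ 1 →
    ∃ m ∈ M, (∀ y ∈ Y, m * y * m⁻¹ = y) ∧ m * e * m⁻¹ = e'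
  elem : ∃ p : ℕ, p.Prime ∧ p ≠ 2 ∧ ∃ m ∈ M, (∀ y ∈ Y, m * y * m⁻¹ = y) ∧
    (∀ e ∈ E, m * e * m⁻¹ ∈ E) ∧ m ∉ centralizer (V : Set G) ∧ m ^ p ∈ centralizer (V : Set G)

variable [Finite G] {M V Y : Subgroup G}

/-- The criterion in `C(Y)/Y`: a subgroup of `C_M(Y)` transitive on `V` outside `Y` modulo `Y` whose
`2`-elements centralize `V` modulo `Y`. -/
theorem exists_transitive (hcrit : Crit59.CritProp.{u}) (h : Hyp M V) (hY : MaxInt M V Y)
    (hz : ∃ z ∈ V, Nice M z) {a b : G} (ha : a ∈ V) (hb : b ∈ V) (haY : a ∉ Y) (hbY : b ∉ Y)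
    (habY : a * b ∉ Y) :
    ∃ K₀ : Subgroup G, K₀ ≤ M ∧ (∀ k ∈ K₀, ∀ y ∈ Y, k * y * k⁻¹ = y) ∧
      (∀ u ∈ V, ∀ w ∈ V, u ∉ Y → w ∉ Y → ∃ k ∈ K₀, k * u * k⁻¹ * w⁻¹ ∈ Y) ∧
      (∀ k ∈ K₀, (∃ i : ℕ, k ^ (2 ^ i) = 1) → ∀ w ∈ V, k * w * k⁻¹ * w⁻¹ ∈ Y) := by
  classical
  set X := centralizer (Y : Set G) with hX
  have hfixX : ∀ x : X, ∀ y ∈ Y, (x : G) * y * (x : G)⁻¹ = y := fun x y hy => by
    rw [← mem_centralizer_iff.1 x.2 y hy, mul_inv_cancel_right]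
  have hVX : V ≤ X := fun v hv => mem_centralizer_iff.2 fun y hy => h.comm (hY.le hy) hv
  set Y₀ := Y.subgroupOf X with hY₀
  haveI : Y₀.Normal := ⟨fun y hy g => by
    show ((g * y * g⁻¹ : X) : G) ∈ Y
    rw [coe_mul, coe_mul, coe_inv, hfixX g (y : G) hy]
    exact hy⟩
  set π := QuotientGroup.mk' Y₀
  have hπ : ∀ x : X, π x = 1 ↔ (x : G) ∈ Y := fun x => QuotientGroup.eq_one_iff x
  have hsurj : Function.Surjective π := QuotientGroup.mk'_surjective _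
  -- fixed points of elements outside `Y`
  have hfix : ∀ x : X, ∀ v ∈ V, v ∉ Y → (x : G) * v * (x : G)⁻¹ ∈ M → (x : G) ∈ M := by
    intro x v hv hvY hxv
    by_contra hxM
    exact hvY (hY.max x hxM (fun y hy => (hfixX x y hy).symm ▸ hY.le hy) v hv
      (h.mem_of_conj hv hxv))
  set H : Subgroup (X ⧸ Y₀) := (M.subgroupOf X).map π with hH
  have hmemH : ∀ x : X, π x ∈ H ↔ (x : G) ∈ M := by
    intro x
    refine ⟨?_, fun hx => ⟨x, hx, rfl⟩⟩
    rintro ⟨m, hm, he⟩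
    have h1 : ((m⁻¹ * x : X) : G) ∈ Y :=
      (hπ _).1 (by rw [map_mul, map_inv, he, inv_mul_cancel])
    have := mul_mem (show (m : G) ∈ M from hm) (h.le (hY.le h1))
    simpa using this
  set W : Subgroup (X ⧸ Y₀) := (V.subgroupOf X).map π with hW
  set D : Set (X ⧸ Y₀) :=
    {d | ∃ v : X, (v : G) ∈ V ∧ (v : G) ∉ Y ∧ ∃ g, g * π v * g⁻¹ = d} with hD
  have hDmem : ∀ d ∈ D, d ∈ H → ∃ u : X, (u : G) ∈ V ∧ (u : G) ∉ Y ∧ π u = d := by
    rintro _ ⟨v, hvV, hvY, g, rfl⟩ hd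
    obtain ⟨x, rfl⟩ := hsurj g
    rw [← map_inv, ← map_mul, ← map_mul, hmemH] at hd
    refine ⟨x * v * x⁻¹, ?_, fun hc => hvY ?_, by rw [map_mul, map_mul, map_inv]⟩
    · simpa using h.mem_of_conj hvV (by simpa using hd)
    · have h1 : ((x : G))⁻¹ * ((x : G) * v * (x : G)⁻¹) * x = (v : G) := by group
      have h2 := hfixX x⁻¹ _ hc
      simp only [coe_inv, coe_mul, inv_inv] at h2
      rw [h1] at h2
      exact h2 ▸ hc
  have hself : ∀ v : X, (v : G) ∈ V → (v : G) ∉ Y → π v ∈ D := fun v hv hvY =>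
    ⟨v, hv, hvY, 1, by simp⟩
  have hne1 : ∀ v : X, (v : G) ∉ Y → π v ≠ 1 := fun v hv h1 => hv ((hπ v).1 h1)
  have hW2 : ∀ w ∈ W, w * w = 1 := by
    rintro _ ⟨v, hv, rfl⟩
    rw [← map_mul]
    exact (hπ _).2 (by rw [coe_mul, h.sq (v : G) hv]; exact one_mem _)
  have haW : π ⟨a, hVX ha⟩ ∈ W := ⟨_, ha, rfl⟩
  have hbW : π ⟨b, hVX hb⟩ ∈ W := ⟨_, hb, rfl⟩
  have hHne : H ≠ ⊤ := by
    obtain ⟨z, hzV, hzn⟩ := hz
    obtain ⟨g, hg, hgY⟩ := hY.witness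
    have hzX : g⁻¹ * z * g ∈ X := mem_centralizer_iff.2 fun y hy => by
      calc y * (g⁻¹ * z * g) = g⁻¹ * (g * y * g⁻¹ * z) * g := by group
        _ = g⁻¹ * (z * (g * y * g⁻¹)) * g := by rw [h.comm (hgY y hy) hzV]
        _ = g⁻¹ * z * g * y := by group
    intro htop
    have h1 : g⁻¹ * z * g ∈ M := (hmemH ⟨_, hzX⟩).1 (by rw [htop]; exact mem_top _)
    have h2 := h.nice_fix hzV hzn (g := g⁻¹) (by rwa [inv_inv])
    exact hg (by simpa using M.inv_mem h2)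
  have hset : Crit59.Setting H D := by
    refine ⟨hHne, ?_, ?_, ?_, ?_, ?_⟩
    · rintro _ ⟨v, hv, hvY, g, rfl⟩
      rw [Involutions.Basic.orderOf_conj_eq]
      exact orderOf_eq_prime (by rw [pow_two]; exact hW2 _ ⟨v, hv, rfl⟩) (hne1 v hvY)
    · rintro _ ⟨v, hv, hvY, g, rfl⟩ g'
      exact ⟨v, hv, hvY, g' * g, by group⟩
    · rintro _ ⟨v, hv, hvY, g, rfl⟩
      exact ⟨g⁻¹, by simpa [mul_assoc] using (hmemH v).2 (h.le hv)⟩
    · intro d hd hdH g hg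
      obtain ⟨u, hu, huY, rfl⟩ := hDmem d hd hdH
      obtain ⟨x, rfl⟩ := hsurj g
      rw [← map_inv, ← map_mul, ← map_mul, hmemH] at hg
      exact (hmemH x).2 (hfix x _ hu huY (by simpa using hg))
    · have hset' : Nat.card {d : X ⧸ Y₀ // d ∈ D ∧ d ∈ H} + 1 = Nat.card W := by
        have e : Nat.card {d : X ⧸ Y₀ // d ∈ D ∧ d ∈ H} =
            Nat.card {w : W // w ≠ 1} := by
          refine Nat.card_congr
            { toFun := fun d => ⟨⟨d.1, ?_⟩, ?_⟩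
              invFun := fun w => ⟨w.1.1, ?_⟩
              left_inv := fun d => rfl
              right_inv := fun w => rfl }
          · obtain ⟨u, hu, -, he⟩ := hDmem d.1 d.2.1 d.2.2
            exact he ▸ ⟨u, hu, rfl⟩
          · obtain ⟨u, -, huY, he⟩ := hDmem d.1 d.2.1 d.2.2
            exact fun hc => hne1 u huY (he.trans (congrArg Subtype.val hc))
          · obtain ⟨⟨_, v, hv, rfl⟩, hw⟩ := w
            exact ⟨hself v hv fun hc => hw (Subtype.ext ((hπ v).2 hc)),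
              (hmemH v).2 (h.le hv)⟩
        rw [e]
        haveI := Fintype.ofFinite W
        rw [Nat.card_eq_fintype_card, Nat.card_eq_fintype_card, Fintype.card_subtype_compl,
          Fintype.card_subtype_eq]
        have : 0 < Fintype.card W := Fintype.card_pos
        omega
      have hWev : Even (Nat.card W) := by
        rw [even_iff_two_dvd]
        have ho : orderOf (π ⟨a, hVX ha⟩) = 2 :=
          orderOf_eq_prime (by rw [pow_two]; exact hW2 _ haW) (hne1 _ haY)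
        exact ho ▸ Subgroup.orderOf_dvd_natCard W haW
      rw [← hset'] at hWev
      exact Nat.not_even_iff_odd.1 (Nat.even_add_one.1 hWev)
  have hclosed : Crit59.ProdClosed H D := by
    intro d e hd hdH he heH _ hne
    obtain ⟨u, hu, -, rfl⟩ := hDmem d hd hdH
    obtain ⟨w, hw, -, rfl⟩ := hDmem e he heH
    rw [← map_mul]
    refine hself (u * w) (by rw [coe_mul]; exact mul_mem hu hw) fun hc => hne ?_
    have h1 := (hπ (u * w)).2 hc
    rw [map_mul] at h1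
    calc π u = π u * π w * π w := by rw [mul_assoc, hW2 (π w) ⟨w, hw, rfl⟩, mul_one]
      _ = π w := by rw [h1, one_mul]
  have hSE := hcrit _ H D hset (Or.inr hclosed)
  set L := Subgroup.closure D with hL
  have hWL : W ≤ L := by
    rintro _ ⟨v, hv, rfl⟩
    by_cases hvY : (v : G) ∈ Y
    · rw [(hπ v).2 hvY]; exact one_mem _
    · exact Subgroup.subset_closure (hself v hv hvY)
  have hWH : W ≤ H := by
    rintro _ ⟨v, hv, rfl⟩
    exact (hmemH v).2 (h.le hv)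
  have hWn : ∀ k ∈ H, ∀ w ∈ W, k * w * k⁻¹ ∈ W := by
    rintro _ ⟨k, hk, rfl⟩ _ ⟨v, hv, rfl⟩
    exact ⟨k * v * k⁻¹, h.norm _ hk _ hv, by rw [map_mul, map_mul, map_inv]⟩
  have htwo := Torus.two_centralizes BenderOne.propPartOneFinal BenderSuzuki.propMain hSE
    (W := W.subgroupOf L) (fun w hw => hWH hw) (fun k hk w hw => hWn _ hk _ hw)
    (fun w hw => Subtype.ext (hW2 _ hw)) (a := ⟨_, hWL haW⟩) (b := ⟨_, hWL hbW⟩) haW hbW
    (fun hc => hne1 _ haY (congrArg Subtype.val hc))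
    (fun hc => hne1 _ hbY (congrArg Subtype.val hc))
    (fun hc => habY (by
      have h1 : π ⟨a, hVX ha⟩ = π ⟨b, hVX hb⟩ := congrArg Subtype.val hc
      have h2 : π (⟨a, hVX ha⟩ * ⟨b, hVX hb⟩) = 1 := by rw [map_mul, h1]; exact hW2 _ hbW
      exact (hπ _).1 h2))
  refine ⟨((L.comap π) ⊓ M.subgroupOf X).map X.subtype, ?_, ?_, ?_, ?_⟩
  · rintro _ ⟨x, hx, rfl⟩
    exact hx.2
  · rintro _ ⟨x, -, rfl⟩ y hy
    exact hfixX x y hy
  · intro u hu w hw huY hwY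
    have hu' : π ⟨u, hVX hu⟩ ∈ W := ⟨_, hu, rfl⟩
    have hw' : π ⟨w, hVX hw⟩ ∈ W := ⟨_, hw, rfl⟩
    obtain ⟨k, hk, hku⟩ := Torus.exists_conj hSE (a := ⟨_, hWL hu'⟩) (b := ⟨_, hWL hw'⟩)
      (by rw [← orderOf_coe]; exact orderOf_eq_prime (by rw [pow_two]; exact hW2 _ hu') (hne1 _ huY))
      (by rw [← orderOf_coe]; exact orderOf_eq_prime (by rw [pow_two]; exact hW2 _ hw') (hne1 _ hwY))
      (hWH hu') (hWH hw')
    obtain ⟨x, hx⟩ := hsurj k
    have hxM : (x : G) ∈ M := (hmemH x).1 (by rw [hx]; exact hk)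
    refine ⟨x, ⟨x, ⟨by show π x ∈ L; rw [hx]; exact k.2, hxM⟩, rfl⟩, ?_⟩
    have h1 : π (x * ⟨u, hVX hu⟩ * x⁻¹ * (⟨w, hVX hw⟩ : X)⁻¹) = 1 := by
      rw [map_mul, map_mul, map_mul, map_inv, map_inv, hx]
      have := congrArg Subtype.val hku
      simp only [coe_mul, coe_inv] at this
      rw [this, mul_inv_cancel]
    simpa using (hπ _).1 h1
  · rintro _ ⟨x, ⟨hxL, hxM⟩, rfl⟩ ⟨i, hi⟩ w hw
    have hw' : π ⟨w, hVX hw⟩ ∈ W := ⟨_, hw, rfl⟩
    have h2 := htwo ⟨π x, hxL⟩ ((hmemH x).2 hxM) ⟨i, Subtype.ext (by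
      rw [SubgroupClass.coe_pow, ← map_pow, show x ^ (2 ^ i) = 1 from Subtype.ext hi, map_one]
      rfl)⟩ ⟨_, hWL hw'⟩ hw'
    have h1 : π (x * ⟨w, hVX hw⟩ * x⁻¹ * (⟨w, hVX hw⟩ : X)⁻¹) = 1 := by
      rw [map_mul, map_mul, map_mul, map_inv, map_inv]
      have := congrArg Subtype.val h2
      simp only [coe_mul, coe_inv] at this
      rw [this, mul_inv_cancel]
    simpa using (hπ _).1 h1

end Cfsg.Agent.Lib.QTUnique
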